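import Groth.Agent.LocCohLib.DTExact

/-!
If `cd(A, I) ≤ 1` then the complement of `V(I)` is affine.
-/

set_option autoImplicit false
set_option backward.isDefEq.respectTransparency.types false
universe u

open CategoryTheory AlgebraicGeometry TopologicalSpace Opposite

noncomputable section

namespace Groth.Agent.HLVTLib

open LocCohLib

variable {A : Type u} [CommRing A] {I : Ideal A}

/-- The complement of `V(I)`. -/
def UO (A : Type u) [CommRing A] (I : Ideal A) : Opens (PrimeSpectrum.Top A) :=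
  ⟨(PrimeSpectrum.zeroLocus (R := A) (I : Set A))ᶜ, (PrimeSpectrum.isClosed_zeroLocus _).isOpen_compl⟩

/-- The sections of the structure sheaf away from `V(I)`. -/
abbrev USec (A : Type u) [CommRing A] (I : Ideal A) : Type u :=
  (structureSheafInType A A).obj.obj (op (UO A I))

theorem exists_mem_notMem (x : (UO A I)) (n : ℕ) :
    ∃ b ∈ I ^ n, b ∉ x.1.asIdeal := by
  have hx : ¬ (I : Set A) ⊆ (x.1.asIdeal : Set A) := fun h => x.2 h
  obtain ⟨b, hb, hbx⟩ := Set.not_subset.1 hx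
  exact ⟨b ^ n, Ideal.pow_mem_pow hb n, fun h => hbx (x.1.2.mem_of_pow_mem n h)⟩

theorem mk_eq_of_hom {n : ℕ} (φ : ↥(I ^ n) →ₗ[A] A) (x : PrimeSpectrum A) (b b' : ↥(I ^ n))
    (hb : (b : A) ∉ x.asIdeal) (hb' : (b' : A) ∉ x.asIdeal) :
    LocalizedModule.mk (φ b) (⟨(b : A), hb⟩ : x.asIdeal.primeCompl) =
      LocalizedModule.mk (φ b') (⟨(b' : A), hb'⟩ : x.asIdeal.primeCompl) := by
  rw [LocalizedModule.mk_eq]
  refine ⟨1, ?_⟩
  rw [one_smul, one_smul]
  show (b' : A) • φ b = (b : A) • φ b'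
  rw [← map_smul, ← map_smul]
  congr 1
  exact Subtype.ext (mul_comm _ _)

/-- The section defined by a linear map on a power of `I`. -/
def secOf (n : ℕ) (φ : ↥(I ^ n) →ₗ[A] A) : USec A I :=
  ⟨fun x => LocalizedModule.mk (φ ⟨(exists_mem_notMem x n).choose, (exists_mem_notMem x n).choose_spec.1⟩)
      ⟨(exists_mem_notMem x n).choose, (exists_mem_notMem x n).choose_spec.2⟩,
    fun x => by
      obtain ⟨b, hb, hbx⟩ := exists_mem_notMem x n
      refine ⟨(UO A I) ⊓ PrimeSpectrum.basicOpen b, ⟨x.2, hbx⟩,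
        Opens.infLELeft _ _, φ ⟨b, hb⟩, b, fun y => ⟨y.2.2, ?_⟩⟩
      exact mk_eq_of_hom φ y.1 _ ⟨b, hb⟩ _ y.2.2⟩

theorem secOf_apply {n : ℕ} (φ : ↥(I ^ n) →ₗ[A] A) (x : (UO A I))
    (b : ↥(I ^ n)) (hb : (b : A) ∉ x.1.asIdeal) :
    (secOf n φ).1 x = LocalizedModule.mk (φ b) (⟨(b : A), hb⟩ : x.1.asIdeal.primeCompl) :=
  mk_eq_of_hom φ x.1 _ b _ hb

theorem secOf_res {n m : ℕ} (h : n ≤ m) (φ : ↥(I ^ n) →ₗ[A] A) :
    secOf m (φ ∘ₗ Submodule.inclusion (powLe h)) = secOf n φ := by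
  refine Subtype.ext (funext fun x => ?_)
  obtain ⟨b, hb, hbx⟩ := exists_mem_notMem x m
  rw [secOf_apply _ x ⟨b, hb⟩ hbx, secOf_apply φ x ⟨b, powLe h hb⟩ hbx]
  rfl

theorem secOf_add {n : ℕ} (φ ψ : ↥(I ^ n) →ₗ[A] A) : secOf n (φ + ψ) = secOf n φ + secOf n ψ := by
  refine Subtype.ext (funext fun x => ?_)
  obtain ⟨b, hb, hbx⟩ := exists_mem_notMem x n
  show (secOf n (φ + ψ)).1 x = (secOf n φ).1 x + (secOf n ψ).1 x
  rw [secOf_apply _ x ⟨b, hb⟩ hbx, secOf_apply φ x ⟨b, hb⟩ hbx,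
    secOf_apply ψ x ⟨b, hb⟩ hbx, LocalizedModule.mk_add_mk, LocalizedModule.mk_eq]
  refine ⟨1, ?_⟩
  simp only [one_smul, LinearMap.add_apply, Submonoid.smul_def, Submonoid.coe_mul, smul_eq_mul]
  ring

theorem secOf_smul {n : ℕ} (a : A) (φ : ↥(I ^ n) →ₗ[A] A) : secOf n (a • φ) = a • secOf n φ := by
  refine Subtype.ext (funext fun x => ?_)
  obtain ⟨b, hb, hbx⟩ := exists_mem_notMem x n
  show (secOf n (a • φ)).1 x = a • (secOf n φ).1 x
  rw [secOf_apply _ x ⟨b, hb⟩ hbx, secOf_apply φ x ⟨b, hb⟩ hbx,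
    LinearMap.smul_apply, LocalizedModule.smul'_mk]

theorem secOf_lsmul (n : ℕ) : secOf n (((LinearMap.lsmul A A).domRestrict (I ^ n)).flip (1 : A)) = (1 : USec A I) := by
  refine Subtype.ext (funext fun x => ?_)
  obtain ⟨b, hb, hbx⟩ := exists_mem_notMem x n
  rw [secOf_apply _ x ⟨b, hb⟩ hbx, ← map_one (algebraMap A (USec A I))]
  show _ = LocalizedModule.mk (1 : A) (1 : x.1.asIdeal.primeCompl)
  rw [LocalizedModule.mk_eq]
  exact ⟨1, by simp [Submonoid.smul_def]⟩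

variable [IsNoetherianRing A]

theorem map_eq_top_of_cdLE (h : LocCoh.CdLE A I 1) :
    I.map (algebraMap A (USec A I)) = ⊤ := by
  set J := I.map (algebraMap A (USec A I))
  have key : ∀ z ∈ I • (⊤ : Submodule A (LocCoh.DT I A)), ∃ n φ, dι I A n φ = z ∧ secOf n φ ∈ J := by
    intro z hz
    refine Submodule.smul_induction_on hz ?_ ?_
    · intro a ha w _
      obtain ⟨n, φ, rfl⟩ := exists_dι w
      refine ⟨n, a • φ, map_smul _ _ _, ?_⟩
      rw [secOf_smul, Algebra.smul_def]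
      exact Ideal.mul_mem_right _ _ (Ideal.mem_map_of_mem _ ha)
    · rintro z₁ z₂ ⟨n₁, φ₁, rfl, h₁⟩ ⟨n₂, φ₂, rfl, h₂⟩
      refine ⟨max n₁ n₂, φ₁ ∘ₗ Submodule.inclusion (powLe (le_max_left _ _)) +
        φ₂ ∘ₗ Submodule.inclusion (powLe (le_max_right _ _)), ?_, ?_⟩
      · rw [map_add, dι_res (le_max_left _ _), dι_res (le_max_right _ _)]
      · rw [secOf_add, secOf_res (le_max_left _ _), secOf_res (le_max_right _ _)]
        exact add_mem h₁ h₂
  obtain ⟨n, φ, hφ, hmem⟩ := key (LocCoh.toDT I A 1) (by rw [smul_top_of_cdLE h]; trivial)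
  rw [toDT_eq_dι n, ← sub_eq_zero, ← map_sub, dι_eq_zero_iff] at hφ
  obtain ⟨m, hm, hzero⟩ := hφ
  rw [LinearMap.sub_comp, sub_eq_zero] at hzero
  rw [← secOf_res hm, hzero, secOf_res hm, secOf_lsmul] at hmem
  exact (Ideal.eq_top_iff_one J).2 hmem

theorem isAffine_puncturedOpen (h : LocCoh.CdLE A I 1) :
    IsAffine (↑(LocCoh.puncturedOpen A I) : Scheme.{u}) := by
  let U := LocCoh.puncturedOpen A I
  let φ : CommRingCat.of A ⟶ Γ(Spec (CommRingCat.of A), U) :=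
    (Scheme.ΓSpecIso (CommRingCat.of A)).inv ≫ (Spec (CommRingCat.of A)).presheaf.map (homOfLE le_top).op
  have hφ : φ.hom = algebraMap A (USec A I) := rfl
  refine (isAffineOpen_of_isAffineOpen_basicOpen U (φ.hom '' (I : Set A)) ?_ ?_ : IsAffineOpen U)
  · show Ideal.map φ.hom I = ⊤
    rw [hφ]
    exact map_eq_top_of_cdLE h
  · rintro _ ⟨a, ha, rfl⟩
    have hb : (Spec (CommRingCat.of A)).basicOpen (φ.hom a) = PrimeSpectrum.basicOpen a := by
      show (Spec (CommRingCat.of A)).basicOpen ((Spec (CommRingCat.of A)).presheaf.map (homOfLE le_top).op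
        ((Scheme.ΓSpecIso (CommRingCat.of A)).inv a)) = _
      rw [Scheme.basicOpen_res, basicOpen_eq_of_affine]
      exact inf_eq_right.2 fun q hq hq' => hq (hq' ha)
    rw [hb]
    exact IsAffineOpen.Spec_basicOpen (R := CommRingCat.of A) a

end Groth.Agent.HLVTLib
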