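import Groth.Agent.HLVTLib.Reduce
import Groth.Agent.HLVTLib.Punctured
import Groth.Agent.GRingCompleteLib.Completion
import Groth.Agent.S2644
import Groth.Agent.RatliffLib.Formal

/-!
The completion of an excellent normal local domain is a domain.
-/

set_option autoImplicit false
universe u

open IsLocalRing

noncomputable section

namespace Groth.Agent.HLVTLib

theorem isNormalRing_of_regular (R : Type u) [CommRing R] [IsRegularRing R] : EGA4.IsNormalRing R := by
  intro p _
  haveI := isRegularRing_iff.mp ‹IsRegularRing R› p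
  haveI := RegLocal.isDomain (R := Localization.AtPrime p)
  haveI := RegLocal.ufd (Localization.AtPrime p)
  exact ⟨inferInstance, UniqueFactorizationMonoid.instIsIntegrallyClosed⟩

theorem isDomain_cpl (A : Type u) [CommRing A] [IsDomain A] [IsLocalRing A] [IsNoetherianRing A]
    [IsIntegrallyClosed A] (hA : EGA4.IsExcellent A) : IsDomain (Cpl A) := by
  have hreg := GRingCompleteLib.isRegularHom_adicCompletion A hA.2.2.1 (maximalIdeal A)
  have hfib : EGA4.HasGeomNormalFormalFibres A := fun p _ k' _ _ hk' =>
    haveI := (hreg.2 p).2 k' hk'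
    isNormalRing_of_regular _
  have hN : EGA4.IsNormalRing (Cpl A) :=
    (S2644.result A hfib).1 (NormalTensor.isNormalRing_of_domain A)
  refine NormalTensor.isDomain_of_idempotent hN fun e he => ?_
  rcases IsLocalRing.isUnit_or_isUnit_of_add_one (show e + (1 - e) = 1 by ring) with h | h
  · exact Or.inr (h.mul_left_cancel (by rw [mul_one]; exact he))
  · exact Or.inl (h.mul_left_cancel (by rw [mul_zero, sub_mul, one_mul, he, sub_self]))

theorem subsingleton_H_of_cpl_domain {A : Type u} [CommRing A] [IsLocalRing A] [IsNoetherianRing A]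
    [IsDomain (Cpl A)] (I : Ideal A) (hI : 1 ≤ ringKrullDim (A ⧸ I)) (M : Type u) [AddCommGroup M] [Module A M]
    (i : ℕ) (hi : ringKrullDim A ≤ (i : WithBot ℕ∞)) : Subsingleton (LocCoh.H I i M) := by
  obtain ⟨d, hd⟩ := RegLocal.exists_nat_ringKrullDim A
  refine subsingleton_H_of_cpl I M i ?_
  refine subsingleton_H_of_domain (Cpl A) (ringKrullDim_cpl.trans hd) _ ?_ _ i (by rw [hd] at hi; exact_mod_cast hi)
  obtain ⟨_, _, -, _, -⟩ := RatliffLib.compl_facts A
  have hne : I ≠ ⊤ := fun h => by
    subst h
    haveI : Subsingleton (A ⧸ (⊤ : Ideal A)) := Ideal.Quotient.subsingleton_iff.2 rfl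
    rw [ringKrullDim_eq_bot_of_subsingleton] at hI
    exact absurd hI (by simp)
  rw [RatliffLib.dim_quotient_map I hne, RatliffLib.closedFibre_completion, add_zero]
  exact hI

end Groth.Agent.HLVTLib
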