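import Groth.Agent.HLVTLib.Reduce
import Groth.Agent.SmallAlgLib.ConnDim
import Groth.Agent.S0381
import Groth.Agent.LocCohLib.Change

/-!
Connectedness dimension and cohomological dimension (Faltings, Brodmann–Rung).
-/

set_option autoImplicit false
universe u

open CategoryTheory IsLocalRing TopologicalSpace

noncomputable section

namespace Groth.Agent.HLVTLib

open LocCohLib

theorem krullDim_zeroLocus {R : Type u} [CommRing R] (I : Ideal R) :
    topologicalKrullDim (PrimeSpectrum.zeroLocus (I : Set R)) = ringKrullDim (R ⧸ I) := by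
  have hemb := (PrimeSpectrum.isClosedEmbedding_comap_of_surjective _ (Ideal.Quotient.mk I) Ideal.Quotient.mk_surjective).isEmbedding
  rw [← IsHomeomorph.topologicalKrullDim_eq _ (hemb.toHomeomorph.trans (Homeomorph.setCongr (by
    rw [range_comap_of_surjective _ _ Ideal.Quotient.mk_surjective, Ideal.mk_ker]))).isHomeomorph]
  exact PrimeSpectrum.topologicalKrullDim_eq_ringKrullDim _

variable {R : Type u} [CommRing R]

theorem dim_quot_anti {I J : Ideal R} (h : I ≤ J) : ringKrullDim (R ⧸ J) ≤ ringKrullDim (R ⧸ I) :=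
  ringKrullDim_le_of_surjective (Ideal.Quotient.factor h) (Ideal.Quotient.factor_surjective h)

theorem dim_succ_le_of_mem {Q J : Ideal R} [Q.IsPrime] (hQJ : Q ≤ J) {x : R} (hxJ : x ∈ J) (hxQ : x ∉ Q) :
    ringKrullDim (R ⧸ J) + 1 ≤ ringKrullDim (R ⧸ Q) :=
  ringKrullDim_succ_le_of_surjective (Ideal.Quotient.factor hQJ) (Ideal.Quotient.factor_surjective hQJ)
    (r := Ideal.Quotient.mk Q x)
    (mem_nonZeroDivisors_of_ne_zero fun h => hxQ (Ideal.Quotient.eq_zero_iff_mem.1 h))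
    (by rw [Ideal.Quotient.factor_mk]; exact Ideal.Quotient.eq_zero_iff_mem.2 hxJ)

theorem mem_maximalIdeal_of_mem [IsLocalRing R] {I : Ideal R} (hI : I ≠ ⊤) {x : R} (hx : x ∈ I) :
    x ∈ maximalIdeal R := le_maximalIdeal hI hx

variable [IsNoetherianRing R]

theorem exists_nat_dim [IsLocalRing R] {J : Ideal R} (hJ : J ≠ ⊤) : ∃ e : ℕ, ringKrullDim (R ⧸ J) = e := by
  haveI : Nontrivial (R ⧸ J) := Ideal.Quotient.nontrivial_iff.2 hJ
  haveI : IsLocalRing (R ⧸ J) := IsLocalRing.of_surjective' _ Ideal.Quotient.mk_surjective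
  exact RegLocal.exists_nat_ringKrullDim _

theorem exists_prime_dim [IsLocalRing R] {J : Ideal R} (hJ : J ≠ ⊤) :
    ∃ p : Ideal R, p.IsPrime ∧ J ≤ p ∧ ringKrullDim (R ⧸ p) = ringKrullDim (R ⧸ J) := by
  obtain ⟨e, he⟩ := exists_nat_dim hJ
  have h1 : (e : WithBot ℕ∞) ≤ Order.krullDim (PrimeSpectrum.zeroLocus (J : Set R)) := by
    rw [← ringKrullDim_quotient, he]
  obtain ⟨l, hl⟩ := Order.le_krullDim_iff.1 h1
  refine ⟨l.head.1.asIdeal, l.head.1.2, l.head.2, le_antisymm (dim_quot_anti l.head.2) ?_⟩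
  rw [he, ringKrullDim_quotient, Order.le_krullDim_iff]
  have hle : ∀ i, l.head.1.asIdeal ≤ (l i).1.asIdeal := fun i => l.head_le i
  refine ⟨⟨l.length, fun i => ⟨(l i).1, hle i⟩, fun i => l.step i⟩, hl⟩

theorem radical_eq_of_dim_le_zero [IsLocalRing R] {J : Ideal R} (hJ : J ≠ ⊤) (h : ringKrullDim (R ⧸ J) ≤ 0) :
    J.radical = maximalIdeal R := by
  refine le_antisymm ((maximalIdeal.isMaximal R).isPrime.radical_le_iff.2 (le_maximalIdeal hJ)) ?_
  rw [Ideal.radical_eq_sInf]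
  refine le_sInf fun q hq => ?_
  obtain ⟨hq, hqp⟩ := hq
  by_contra hqm
  obtain ⟨x, hxm, hxq⟩ := Set.not_subset.1 hqm
  have h1 := dim_succ_le_of_mem (le_maximalIdeal hqp.ne_top) hxm hxq
  obtain ⟨e, he⟩ := exists_nat_dim (maximalIdeal.isMaximal R).ne_top
  obtain ⟨e', he'⟩ := exists_nat_dim hqp.ne_top
  have h2 := (dim_quot_anti hq).trans h
  rw [he, he'] at h1
  rw [he'] at h2
  have h3 : e + 1 ≤ e' := by exact_mod_cast h1
  have h4 : e' ≤ 0 := by exact_mod_cast h2
  omega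

theorem cdLE_congr {I J : Ideal R} (h : I.radical = J.radical) {k : ℕ} (hk : LocCoh.CdLE R I k) :
    LocCoh.CdLE R J k := fun M _ _ i hi =>
  haveI := hk M i hi
  (radicalEquiv h i (ModuleCat.of R M)).symm.injective.subsingleton

theorem cdLE_span_fin {r : ℕ} (f : Fin r → R) : LocCoh.CdLE R (Ideal.span (Set.range f)) r :=
  fun _ _ _ i hi => subsingleton_of_radical_fin f rfl _ i hi

theorem cdLE_quot {I : Ideal R} {k : ℕ} (hk : LocCoh.CdLE R I k) (P : Ideal R) :
    LocCoh.CdLE (R ⧸ P) (I.map (algebraMap R (R ⧸ P))) k := fun N _ _ i hi => by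
  letI : Module R N := Module.compHom N (algebraMap R (R ⧸ P))
  haveI : IsScalarTower R (R ⧸ P) N := IsScalarTower.of_algebraMap_smul fun _ _ => rfl
  exact (subsingleton_H_quot_iff I P i N).1 (hk N i hi)

/-- `dim R/p ≤ cd(J) + dim R/(J+p)`. -/
theorem dim_quot_prime_le [IsLocalRing R] {J : Ideal R} (hJ : J ≠ ⊤) {k δ : ℕ} (hk : LocCoh.CdLE R J k)
    (p : Ideal R) [p.IsPrime] (hdim : ringKrullDim (R ⧸ (J ⊔ p)) ≤ δ) :
    ringKrullDim (R ⧸ p) ≤ ((k + δ : ℕ) : WithBot ℕ∞) := by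
  classical
  haveI : Nontrivial (R ⧸ p) := Ideal.Quotient.nontrivial_iff.2 Ideal.IsPrime.ne_top'
  haveI : IsLocalRing (R ⧸ p) := IsLocalRing.of_surjective' _ Ideal.Quotient.mk_surjective
  obtain ⟨e, he⟩ := exists_nat_dim (Ideal.IsPrime.ne_top (I := p) ‹_›)
  let D := R ⧸ p
  set J' := J.map (algebraMap R D) with hJ'
  have hJ'm : J' ≤ maximalIdeal D := by
    rw [hJ', ← IsLocalRing.map_maximalIdeal_of_surjective (algebraMap R D) Ideal.Quotient.mk_surjective]
    exact Ideal.map_mono (le_maximalIdeal hJ)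
  have hJ't : J' ≠ ⊤ := fun h => (maximalIdeal.isMaximal D).ne_top (top_le_iff.1 (h.ge.trans hJ'm))
  haveI : Nontrivial (D ⧸ J') := Ideal.Quotient.nontrivial_iff.2 hJ't
  haveI : IsLocalRing (D ⧸ J') := IsLocalRing.of_surjective' _ Ideal.Quotient.mk_surjective
  obtain ⟨f, hf, hrad⟩ := exists_radical_generators (R := D ⧸ J') δ
    (by rw [hJ', ringKrullDim_quot_map]; exact hdim) (maximalIdeal (D ⧸ J')) (maximalIdeal.isMaximal _).ne_top
  choose g hg using fun i => Ideal.Quotient.mk_surjective (f i)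
  have hK : (J' ⊔ Ideal.span (Set.range g)).radical = maximalIdeal D := by
    have h1 : J' ⊔ Ideal.span (Set.range g) =
        (Ideal.span (Set.range f)).comap (Ideal.Quotient.mk J') := by
      have h2 : Ideal.span (Set.range f) = (Ideal.span (Set.range g)).map (Ideal.Quotient.mk J') := by
        rw [Ideal.map_span, ← Set.range_comp]
        exact congrArg (fun h => Ideal.span (Set.range h)) (funext fun i => (hg i).symm)
      rw [h2, Ideal.comap_map_of_surjective' _ Ideal.Quotient.mk_surjective, Ideal.mk_ker, sup_comm]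
    rw [h1, ← Ideal.comap_radical, ← hrad, (maximalIdeal.isMaximal _).isPrime.radical]
    haveI := Ideal.comap_isMaximal_of_surjective (Ideal.Quotient.mk J') Ideal.Quotient.mk_surjective
      (K := maximalIdeal (D ⧸ J'))
    exact IsLocalRing.eq_maximalIdeal inferInstance
  have hcd : LocCoh.CdLE D (maximalIdeal D) (k + δ) :=
    cdLE_congr (by rw [hK, (maximalIdeal.isMaximal D).isPrime.radical]) (S0381.result D J' _ k δ (cdLE_quot hk p) (cdLE_span_fin g))
  rw [he]
  by_contra hlt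
  have hlt' : k + δ < e := by
    by_contra h
    exact hlt (by exact_mod_cast (Nat.le_of_not_lt h))
  haveI := hcd D e hlt'
  haveI := Groth.Agent.LocCohLib.nontrivial_H (R := D) D e (by rw [Module.supportDim_self_eq_ringKrullDim]; exact he)
  exact false_of_nontrivial_of_subsingleton ((localCohomology (maximalIdeal D) e).obj (ModuleCat.of D D) : Type u)

theorem dim_quot_le_succ [IsLocalRing R] (a : Ideal R) (ha : a ≠ ⊤) {y : R} (hy : y ∈ maximalIdeal R) :
    ringKrullDim (R ⧸ a) ≤ ringKrullDim (R ⧸ (a ⊔ Ideal.span {y})) + 1 := by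
  haveI : Nontrivial (R ⧸ a) := Ideal.Quotient.nontrivial_iff.2 ha
  haveI : IsLocalRing (R ⧸ a) := IsLocalRing.of_surjective' _ Ideal.Quotient.mk_surjective
  have hy' : Ideal.Quotient.mk a y ∈ maximalIdeal (R ⧸ a) := by
    rw [← IsLocalRing.map_maximalIdeal_of_surjective (Ideal.Quotient.mk a) Ideal.Quotient.mk_surjective]
    exact Ideal.mem_map_of_mem _ hy
  refine (ringKrullDim_le_ringKrullDim_quotient_add_card {Ideal.Quotient.mk a y} ?_).trans ?_
  · intro z hz
    rw [Finset.coe_singleton, Set.mem_singleton_iff] at hz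
    subst hz
    rw [SetLike.mem_coe, IsLocalRing.ringJacobson_eq_maximalIdeal]
    exact hy'
  · rw [Finset.coe_singleton, Finset.card_singleton, Nat.cast_one]
    refine add_le_add_left (le_of_eq ?_) 1
    rw [sup_comm a, ← ringKrullDim_quot_map (Ideal.span {y}) a, Ideal.map_span, Set.image_singleton,
      Ideal.Quotient.algebraMap_eq]

/-- Faltings' connectedness inequality for complete domains. -/
theorem dim_le_domain [IsDomain R] [IsLocalRing R] [IsAdicComplete (maximalIdeal R) R] {n : ℕ}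
    (hn : ringKrullDim R = n) : ∀ (δ k : ℕ) (a b : Ideal R), a ≠ ⊤ → b ≠ ⊤ →
      ringKrullDim (R ⧸ (a ⊔ b)) ≤ δ → (δ : WithBot ℕ∞) < ringKrullDim (R ⧸ a) →
      (δ : WithBot ℕ∞) < ringKrullDim (R ⧸ b) → LocCoh.CdLE R (a ⊓ b) k → n ≤ k + δ + 1 := by
  intro δ
  induction δ with
  | zero =>
    intro k a b ha hb hab hda hdb hk
    have hab' : a ⊔ b ≠ ⊤ := fun h =>
      (maximalIdeal.isMaximal R).ne_top (top_le_iff.1 (h.ge.trans (sup_le (le_maximalIdeal ha) (le_maximalIdeal hb))))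
    by_contra hlt
    obtain ⟨i, rfl⟩ : ∃ i, n = i + 1 := ⟨n - 1, by omega⟩
    have one_le : ∀ {J : Ideal R}, J ≠ ⊤ → ((0 : ℕ) : WithBot ℕ∞) < ringKrullDim (R ⧸ J) →
        1 ≤ ringKrullDim (R ⧸ J) := fun {J} hJ h => by
      obtain ⟨e, he⟩ := exists_nat_dim hJ
      rw [he] at h ⊢
      have : 0 < e := by exact_mod_cast h
      exact_mod_cast this
    have h1 := subsingleton_H_of_domain R hn a (one_le ha hda) R (i + 1) le_rfl
    have h2 := subsingleton_H_of_domain R hn b (one_le hb hdb) R (i + 1) le_rfl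
    have h3 := hk R i (by omega)
    have h4 : Subsingleton ((localCohomology (a ⊔ b) (i + 1)).obj (ModuleCat.of R R) : Type u) := by
      refine subsingleton_of_forall_eq 0 fun x => ?_
      have hex := (mv_exact (injectiveResolution (ModuleCat.of R R)) a b).2.1 i
      obtain ⟨y, rfl⟩ : x ∈ LinearMap.range (mvδ (injectiveResolution (ModuleCat.of R R)) a b i) := by
        rw [← hex, LinearMap.mem_ker]
        exact Prod.ext (h1.elim _ _) (h2.elim _ _)
      rw [h3.elim y 0, map_zero]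
    have hrad : (a ⊔ b).radical = (maximalIdeal R).radical := by
      rw [(maximalIdeal.isMaximal R).isPrime.radical]
      exact radical_eq_of_dim_le_zero hab' (by exact_mod_cast hab)
    haveI := h4
    haveI : Subsingleton ((localCohomology (maximalIdeal R) (i + 1)).obj (ModuleCat.of R R) : Type u) :=
      (radicalEquiv hrad (i + 1) (ModuleCat.of R R)).symm.injective.subsingleton
    haveI := Groth.Agent.LocCohLib.nontrivial_H (R := R) R (i + 1) ((Module.supportDim_self_eq_ringKrullDim (R := R)).trans hn)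
    exact false_of_nontrivial_of_subsingleton ((localCohomology (maximalIdeal R) (i + 1)).obj (ModuleCat.of R R) : Type u)
  | succ δ ih =>
    intro k a b ha hb hab hda hdb hk
    classical
    by_cases hsmall : ringKrullDim (R ⧸ (a ⊔ b)) ≤ (δ : ℕ)
    · have hlt : ((δ : ℕ) : WithBot ℕ∞) < ((δ + 1 : ℕ) : WithBot ℕ∞) := by exact_mod_cast Nat.lt_succ_self δ
      have := ih k a b ha hb hsmall (hlt.trans hda) (hlt.trans hdb) hk
      omega
    have hab' : a ⊔ b ≠ ⊤ := fun h =>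
      (maximalIdeal.isMaximal R).ne_top (top_le_iff.1 (h.ge.trans (sup_le (le_maximalIdeal ha) (le_maximalIdeal hb))))
    obtain ⟨y, hym, hy⟩ : ∃ y ∈ maximalIdeal R, ∀ Q ∈ (a ⊔ b).minimalPrimes, y ∉ Q := by
      have hfin := Ideal.finite_minimalPrimes_of_isNoetherianRing R (a ⊔ b)
      by_contra! hcon
      have hsub : (maximalIdeal R : Set R) ⊆ ⋃ Q ∈ (hfin.toFinset : Set (Ideal R)), (Q : Set R) := fun y hy => by
        obtain ⟨Q, hQ, hyQ⟩ := hcon y hy
        exact Set.mem_biUnion (by simpa using hQ) hyQ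
      obtain ⟨Q, hQ, hmQ⟩ := (Ideal.subset_union_prime ⊤ ⊤ fun Q hQ _ _ => (hfin.mem_toFinset.1 hQ).1.1).1 hsub
      rw [hfin.mem_toFinset] at hQ
      refine hsmall (le_trans ?_ (by exact_mod_cast Nat.zero_le δ : ((0 : ℕ) : WithBot ℕ∞) ≤ _))
      obtain ⟨p, hp, hle, hdim⟩ := exists_prime_dim hab'
      rw [← hdim, show p = maximalIdeal R from le_antisymm (le_maximalIdeal hp.ne_top)
        ((hQ.2 ⟨hp, hle⟩ ((le_maximalIdeal hp.ne_top).trans hmQ)).trans' hmQ)]
      letI := Ideal.Quotient.field (maximalIdeal R)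
      rw [ringKrullDim_eq_zero_of_field, Nat.cast_zero]
    let a' := a ⊔ Ideal.span {y}
    let b' := b ⊔ Ideal.span {y}
    have hy' : Ideal.span {y} ≤ maximalIdeal R := (Ideal.span_singleton_le_iff_mem _).2 hym
    have ha' : a' ≠ ⊤ := fun h =>
      (maximalIdeal.isMaximal R).ne_top (top_le_iff.1 (h.ge.trans (sup_le (le_maximalIdeal ha) hy')))
    have hb' : b' ≠ ⊤ := fun h =>
      (maximalIdeal.isMaximal R).ne_top (top_le_iff.1 (h.ge.trans (sup_le (le_maximalIdeal hb) hy')))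
    have hab'' : a' ⊔ b' ≠ ⊤ := fun h =>
      (maximalIdeal.isMaximal R).ne_top (top_le_iff.1 (h.ge.trans (sup_le (le_maximalIdeal ha') (le_maximalIdeal hb'))))
    have hdrop : ringKrullDim (R ⧸ (a' ⊔ b')) ≤ (δ : ℕ) := by
      obtain ⟨P, hP, hle, hdim⟩ := exists_prime_dim hab''
      obtain ⟨Q, hQ, hQP⟩ := Ideal.exists_minimalPrimes_le
        ((sup_le_sup le_sup_left le_sup_left).trans hle : a ⊔ b ≤ P)
      haveI := hQ.1.1
      have h1 := (dim_succ_le_of_mem hQP (hle (Ideal.mem_sup_left (Ideal.mem_sup_right (Ideal.mem_span_singleton_self y))))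
        (hy Q hQ)).trans ((dim_quot_anti hQ.1.2).trans hab)
      obtain ⟨e, he⟩ := exists_nat_dim hP.ne_top
      rw [← hdim, he]
      rw [he] at h1
      have : e + 1 ≤ δ + 1 := by exact_mod_cast h1
      exact_mod_cast (by omega : e ≤ δ)
    have hlow : ∀ (c : Ideal R), c ≠ ⊤ → c ⊔ Ideal.span {y} ≠ ⊤ → ((δ + 1 : ℕ) : WithBot ℕ∞) < ringKrullDim (R ⧸ c) →
        (δ : WithBot ℕ∞) < ringKrullDim (R ⧸ (c ⊔ Ideal.span {y})) := by
      intro c hc hc' hd
      obtain ⟨e, he⟩ := exists_nat_dim hc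
      obtain ⟨e', he'⟩ := exists_nat_dim hc'
      have h1 := dim_quot_le_succ c hc hym
      rw [he] at hd
      rw [he, he'] at h1
      rw [he']
      have h2 : e ≤ e' + 1 := by exact_mod_cast h1
      have h3 : δ + 1 < e := by exact_mod_cast hd
      exact_mod_cast (by omega : δ < e')
    have hcd : LocCoh.CdLE R (a' ⊓ b') (k + 1) := by
      have h1 : LocCoh.CdLE R (Ideal.span {y}) 1 := by
        have := cdLE_span_fin ![y]
        rwa [show Set.range ![y] = {y} by simp] at this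
      refine cdLE_congr ?_ (S0381.result R _ _ k 1 hk h1)
      refine le_antisymm (Ideal.radical_mono (sup_le (inf_le_inf le_sup_left le_sup_left)
        (le_inf le_sup_right le_sup_right))) ?_
      rw [Ideal.radical_eq_sInf (I := (a ⊓ b) ⊔ _)]
      refine le_sInf fun q hq => ?_
      obtain ⟨hq, hqp⟩ := hq
      rw [sup_le_iff] at hq
      refine hqp.radical_le_iff.2 ?_
      rcases hqp.inf_le.1 hq.1 with h | h
      · exact inf_le_left.trans (sup_le h hq.2)
      · exact inf_le_right.trans (sup_le h hq.2)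
    have := ih (k + 1) a' b' ha' hb' hdrop (hlow a ha ha' hda) (hlow b hb hb' hdb) hcd
    omega

/-- Finite intersections and zero loci. -/
theorem zeroLocus_finsetInf (s : Finset (Ideal R)) :
    PrimeSpectrum.zeroLocus ((s.inf id : Ideal R) : Set R) =
      ⋃₀ ((fun P : Ideal R => PrimeSpectrum.zeroLocus (P : Set R)) '' (s : Set (Ideal R))) := by
  ext x
  simp only [PrimeSpectrum.mem_zeroLocus, SetLike.coe_subset_coe, Set.mem_sUnion, Set.mem_image]
  rw [x.2.inf_le']
  constructor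
  · rintro ⟨P, hP, h⟩; exact ⟨_, ⟨P, hP, rfl⟩, h⟩
  · rintro ⟨_, ⟨P, hP, rfl⟩, h⟩; exact ⟨P, hP, h⟩

theorem subdim_le {P : Ideal R} (hP : P ∈ minimalPrimes R) :
    LocCoh.subdim (PrimeSpectrum R) ≤ ringKrullDim (R ⧸ P) := by
  rw [← krullDim_zeroLocus]
  exact iInf₂_le _ (by rw [← PrimeSpectrum.zeroLocus_minimalPrimes]; exact ⟨P, hP, rfl⟩)

theorem zeroLocus_injOn_prime {P Q : Ideal R} (hP : P.IsPrime) (hQ : Q.IsPrime)
    (h : PrimeSpectrum.zeroLocus (P : Set R) = PrimeSpectrum.zeroLocus (Q : Set R)) : P = Q := by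
  have := congrArg PrimeSpectrum.vanishingIdeal h
  rwa [PrimeSpectrum.vanishingIdeal_zeroLocus_eq_radical, PrimeSpectrum.vanishingIdeal_zeroLocus_eq_radical,
    hP.radical, hQ.radical] at this

/-- Connectedness inequality for complete local rings. -/
theorem min_connDim_subdim_le [IsLocalRing R] [IsAdicComplete (maximalIdeal R) R] {a b : Ideal R} (ha : a ≠ ⊤) (hb : b ≠ ⊤)
    {δ k : ℕ} (hab : ringKrullDim (R ⧸ (a ⊔ b)) ≤ δ) (hda : (δ : WithBot ℕ∞) < ringKrullDim (R ⧸ a))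
    (hdb : (δ : WithBot ℕ∞) < ringKrullDim (R ⧸ b)) (hk : LocCoh.CdLE R (a ⊓ b) k) :
    min (LocCoh.connDim (PrimeSpectrum R) + 1) (LocCoh.subdim (PrimeSpectrum R)) ≤
      ((k + δ + 1 : ℕ) : WithBot ℕ∞) := by
  classical
  have hfin : (minimalPrimes R).Finite := minimalPrimes.finite_of_isNoetherianRing R
  let A := hfin.toFinset.filter fun P => ringKrullDim (R ⧸ (a ⊔ P)) ≤ δ
  let B := hfin.toFinset.filter fun P => ringKrullDim (R ⧸ (b ⊔ P)) ≤ δ
  by_cases hall : ∀ P ∈ minimalPrimes R, P ∈ A ∨ P ∈ B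
  swap
  · push Not at hall
    obtain ⟨P, hP, hPA, hPB⟩ := hall
    haveI := hP.1.1
    refine (min_le_right _ _).trans ((subdim_le hP).trans ?_)
    simp only [A, B, Finset.mem_filter, hfin.mem_toFinset, hP, true_and, not_le] at hPA hPB
    haveI : Nontrivial (R ⧸ P) := Ideal.Quotient.nontrivial_iff.2 Ideal.IsPrime.ne_top'
    haveI : IsLocalRing (R ⧸ P) := IsLocalRing.of_surjective' _ Ideal.Quotient.mk_surjective
    haveI : IsAdicComplete (maximalIdeal (R ⧸ P)) (R ⧸ P) := FiniteCompleteLib.isAdicComplete_maximalIdeal R (R ⧸ P)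
    obtain ⟨e, he⟩ := exists_nat_dim (Ideal.IsPrime.ne_top (I := P) ‹_›)
    have htop : ∀ c : Ideal R, c ≠ ⊤ → c.map (algebraMap R (R ⧸ P)) ≠ ⊤ := fun c hc h => by
      apply (maximalIdeal.isMaximal (R ⧸ P)).ne_top
      rw [← IsLocalRing.map_maximalIdeal_of_surjective (algebraMap R (R ⧸ P)) Ideal.Quotient.mk_surjective,
        ← top_le_iff, ← h]
      exact Ideal.map_mono (le_maximalIdeal hc)
    have hmain := dim_le_domain (R := R ⧸ P) he δ k (a.map (algebraMap R (R ⧸ P))) (b.map (algebraMap R (R ⧸ P)))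
      (htop a ha) (htop b hb)
      (by rw [← Ideal.map_sup, ringKrullDim_quot_map]; exact (dim_quot_anti le_sup_left).trans hab)
      (by rw [ringKrullDim_quot_map]; exact hPA) (by rw [ringKrullDim_quot_map]; exact hPB) ?_
    · rw [he]; exact_mod_cast hmain
    · refine cdLE_congr ?_ (cdLE_quot hk P)
      refine le_antisymm (Ideal.radical_mono (le_inf (Ideal.map_mono inf_le_left) (Ideal.map_mono inf_le_right))) ?_
      rw [Ideal.radical_eq_sInf (I := Ideal.map _ (a ⊓ b))]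
      refine le_sInf fun q hq => ?_
      obtain ⟨hq, hqp⟩ := hq
      refine hqp.radical_le_iff.2 ?_
      rw [Ideal.map_le_iff_le_comap] at hq
      rcases (Ideal.IsPrime.comap _ (hK := hqp)).inf_le.1 hq with h | h
      · exact inf_le_left.trans (Ideal.map_le_iff_le_comap.2 h)
      · exact inf_le_right.trans (Ideal.map_le_iff_le_comap.2 h)
  -- the components split
  have hnot : ∀ (c : Ideal R), c ≠ ⊤ → (δ : WithBot ℕ∞) < ringKrullDim (R ⧸ c) →
      ∃ P ∈ minimalPrimes R, ¬ ringKrullDim (R ⧸ (c ⊔ P)) ≤ δ := by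
    intro c hc hd
    obtain ⟨Q, hQ, hle, hdim⟩ := exists_prime_dim hc
    obtain ⟨P, hP, hPQ⟩ := Ideal.exists_minimalPrimes_le (bot_le : (⊥ : Ideal R) ≤ Q)
    exact ⟨P, hP, fun h => absurd ((dim_quot_anti (sup_le hle hPQ)).trans h) (not_le.2 (hdim.symm ▸ hd))⟩
  obtain ⟨PA, hPA, hPA'⟩ := hnot a ha hda
  obtain ⟨PB, hPB, hPB'⟩ := hnot b hb hdb
  let Z := fun P : Ideal R => PrimeSpectrum.zeroLocus (P : Set R)
  have hcomp : irreducibleComponents (PrimeSpectrum R) = Z '' minimalPrimes R :=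
    (PrimeSpectrum.zeroLocus_minimalPrimes R).symm
  have hsub : ∀ s : Finset (Ideal R), s ⊆ hfin.toFinset → Z '' (s : Set (Ideal R)) ⊆ irreducibleComponents (PrimeSpectrum R) := by
    intro s hs
    rw [hcomp]
    exact Set.image_mono fun P hP => hfin.mem_toFinset.1 (hs hP)
  have hne : ∀ (s : Finset (Ideal R)), s ⊆ hfin.toFinset → ∀ P ∈ minimalPrimes R, P ∉ s →
      Z '' (s : Set (Ideal R)) ≠ irreducibleComponents (PrimeSpectrum R) := by
    intro s hs P hP hPs h
    obtain ⟨Q, hQ, hQP⟩ : Z P ∈ Z '' (s : Set (Ideal R)) := by rw [h, hcomp]; exact ⟨P, hP, rfl⟩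
    exact hPs (zeroLocus_injOn_prime (hfin.mem_toFinset.1 (hs hQ)).1.1 hP.1.1 hQP ▸ hQ)
  have hc := SmallAlgLib.connDim_le_of_pair (hsub A (Finset.filter_subset _ _)) (hsub B (Finset.filter_subset _ _))
    (hne A (Finset.filter_subset _ _) PA hPA fun h => hPA' (Finset.mem_filter.1 h).2)
    (hne B (Finset.filter_subset _ _) PB hPB fun h => hPB' (Finset.mem_filter.1 h).2)
    (Set.Subset.antisymm (Set.union_subset (hsub A (Finset.filter_subset _ _)) (hsub B (Finset.filter_subset _ _))) (by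
      rw [hcomp]
      rintro _ ⟨P, hP, rfl⟩
      exact (hall P hP).imp (fun h => ⟨P, h, rfl⟩) fun h => ⟨P, h, rfl⟩))
  rw [← zeroLocus_finsetInf, ← zeroLocus_finsetInf, ← PrimeSpectrum.zeroLocus_sup, krullDim_zeroLocus] at hc
  refine (min_le_left _ _).trans ?_
  rw [Nat.cast_add (k + δ), Nat.cast_one]
  refine add_le_add_left (hc.trans ?_) 1
  set J := A.inf id ⊔ B.inf id
  by_cases hJ : J = ⊤
  · haveI : Subsingleton (R ⧸ J) := Ideal.Quotient.subsingleton_iff.2 hJ
    rw [ringKrullDim_eq_bot_of_subsingleton]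
    exact bot_le
  obtain ⟨p, hp, hle, hdim⟩ := exists_prime_dim hJ
  rw [← hdim]
  obtain ⟨P, hP, hPp⟩ := hp.inf_le'.1 (le_sup_left.trans hle)
  obtain ⟨Q, hQ, hQp⟩ := hp.inf_le'.1 (le_sup_right.trans hle)
  have hab' : a ⊓ b ≠ ⊤ := fun h => ha (top_le_iff.1 (h.ge.trans inf_le_left))
  refine dim_quot_prime_le hab' hk p ?_
  obtain ⟨r, hr, hler, hdimr⟩ := exists_prime_dim (show (a ⊓ b) ⊔ p ≠ ⊤ from fun h =>
    (maximalIdeal.isMaximal R).ne_top (top_le_iff.1 (h.ge.trans (sup_le (le_maximalIdeal hab') (le_maximalIdeal hp.ne_top)))))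
  rw [← hdimr]
  rcases hr.inf_le.1 (le_sup_left.trans hler) with h | h
  · exact (dim_quot_anti (sup_le h (hPp.trans (le_sup_right.trans hler)))).trans (Finset.mem_filter.1 hP).2
  · exact (dim_quot_anti (sup_le h (hQp.trans (le_sup_right.trans hler)))).trans (Finset.mem_filter.1 hQ).2

/-- Connectedness dimension of a quotient by an ideal of small arithmetic rank. -/
theorem min_connDim_subdim_le_connDim_quotient [IsLocalRing R] [IsAdicComplete (maximalIdeal R) R] {a : Ideal R}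
    (ha : a ≠ ⊤) {k : ℕ} (hk : LocCoh.CdLE R a k) :
    min (LocCoh.connDim (PrimeSpectrum R) + 1) (LocCoh.subdim (PrimeSpectrum R)) ≤
      LocCoh.connDim (PrimeSpectrum (R ⧸ a)) + (k : WithBot ℕ∞) + 1 := by
  classical
  haveI : Nontrivial (R ⧸ a) := Ideal.Quotient.nontrivial_iff.2 ha
  haveI : IsLocalRing (R ⧸ a) := IsLocalRing.of_surjective' _ Ideal.Quotient.mk_surjective
  let S := R ⧸ a
  let mk := Ideal.Quotient.mk a
  have hfinS : (minimalPrimes S).Finite := minimalPrimes.finite_of_isNoetherianRing S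
  -- attain the infimum
  obtain ⟨A, B, hA, hB, hAne, hBne, hAB, hD⟩ :
      ∃ A B : Set (Set (PrimeSpectrum S)), A ⊆ irreducibleComponents (PrimeSpectrum S) ∧
        B ⊆ irreducibleComponents (PrimeSpectrum S) ∧ A.Nonempty ∧ B.Nonempty ∧
        A ∪ B = irreducibleComponents (PrimeSpectrum S) ∧
        topologicalKrullDim ↥(⋃₀ A ∩ ⋃₀ B) ≤ LocCoh.connDim (PrimeSpectrum S) := by
    obtain ⟨x⟩ := (inferInstance : Nonempty (PrimeSpectrum S))
    let T : Set (Set (Set (PrimeSpectrum S)) × Set (Set (PrimeSpectrum S))) :=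
      {X | X.1 ⊆ irreducibleComponents (PrimeSpectrum S) ∧ X.2 ⊆ irreducibleComponents (PrimeSpectrum S) ∧
        X.1.Nonempty ∧ X.2.Nonempty ∧ X.1 ∪ X.2 = irreducibleComponents (PrimeSpectrum S)}
    have hT : T.Finite := by
      refine ((NoetherianSpace.finite_irreducibleComponents.finite_subsets).prod
        (NoetherianSpace.finite_irreducibleComponents.finite_subsets)).subset fun X hX => ⟨hX.1, hX.2.1⟩
    have hTne : T.Nonempty := ⟨(irreducibleComponents _, irreducibleComponents _), le_rfl, le_rfl,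
      ⟨_, irreducibleComponent_mem_irreducibleComponents x⟩, ⟨_, irreducibleComponent_mem_irreducibleComponents x⟩,
      Set.union_self _⟩
    obtain ⟨X, hX, hmin⟩ := Set.exists_min_image T (fun X => topologicalKrullDim ↥(⋃₀ X.1 ∩ ⋃₀ X.2)) hT hTne
    refine ⟨X.1, X.2, hX.1, hX.2.1, hX.2.2.1, hX.2.2.2.1, hX.2.2.2.2, ?_⟩
    rw [SmallAlgLib.connDim_eq]
    exact le_iInf₂ fun A B => le_iInf fun h => hmin (A, B) h
  let Z := fun P : Ideal S => PrimeSpectrum.zeroLocus (P : Set S)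
  have hcomp : irreducibleComponents (PrimeSpectrum S) = Z '' minimalPrimes S :=
    (PrimeSpectrum.zeroLocus_minimalPrimes S).symm
  -- disjoint nonempty families, unless there is only one component
  by_cases hone : ∀ P ∈ minimalPrimes S, ∀ Q ∈ minimalPrimes S, P = Q
  · obtain ⟨C, hC⟩ := hAne
    obtain ⟨C', hC'⟩ := hBne
    have hall : ∀ X ∈ irreducibleComponents (PrimeSpectrum S), X = C := by
      intro X hX
      have h2 := hA hC
      rw [hcomp] at hX h2
      obtain ⟨P, hP, rfl⟩ := hX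
      obtain ⟨Q, hQ, rfl⟩ := h2
      rw [hone P hP Q hQ]
    have hu : C = Set.univ := by
      refine Set.eq_univ_iff_forall.2 fun x => ?_
      rw [← hall _ (irreducibleComponent_mem_irreducibleComponents x)]
      exact mem_irreducibleComponent
    have hdimS : ringKrullDim S ≤ LocCoh.connDim (PrimeSpectrum S) := by
      refine le_trans ?_ hD
      rw [← PrimeSpectrum.topologicalKrullDim_eq_ringKrullDim,
        ← IsHomeomorph.topologicalKrullDim_eq _ (Homeomorph.Set.univ (PrimeSpectrum S)).isHomeomorph]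
      refine SmallAlgLib.krullDim_mono fun x _ => ⟨⟨C, hC, hu.symm ▸ trivial⟩, ⟨C', hC', ?_⟩⟩
      rw [hall C' (hB hC'), hu]
      trivial
    obtain ⟨P, hP, -⟩ := Ideal.exists_minimalPrimes_le (bot_le : (⊥ : Ideal R) ≤ maximalIdeal R)
    haveI := hP.1.1
    obtain ⟨δ, hδ⟩ := exists_nat_dim ha
    refine (min_le_right _ _).trans ((subdim_le hP).trans ?_)
    refine (dim_quot_prime_le ha hk P ((dim_quot_anti le_sup_left).trans hδ.le)).trans ?_
    rw [Nat.cast_add, add_comm (k : WithBot ℕ∞)]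
    refine le_trans (add_le_add_left (hδ.ge.trans hdimS) _) ?_
    exact le_add_of_nonneg_right zero_le_one
  push Not at hone
  obtain ⟨A', B', hA', hB', hA'ne, hB'ne, hdisj, hcov, hD'⟩ :
      ∃ A' B' : Finset (Ideal S), A' ⊆ hfinS.toFinset ∧ B' ⊆ hfinS.toFinset ∧ A'.Nonempty ∧ B'.Nonempty ∧
        Disjoint A' B' ∧ A' ∪ B' = hfinS.toFinset ∧
        ringKrullDim (S ⧸ (A'.inf id ⊔ B'.inf id)) ≤ LocCoh.connDim (PrimeSpectrum S) := by
    have mkfam : ∀ X : Finset (Ideal S), X ⊆ hfinS.toFinset →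
        ⋃₀ (Z '' (X : Set (Ideal S))) ∩ ⋃₀ (Z '' ((hfinS.toFinset \ X : Finset (Ideal S)) : Set (Ideal S))) ⊆
          ⋃₀ A ∩ ⋃₀ B →
        ringKrullDim (S ⧸ (X.inf id ⊔ (hfinS.toFinset \ X).inf id)) ≤ LocCoh.connDim (PrimeSpectrum S) := by
      intro X _ h
      rw [← krullDim_zeroLocus, PrimeSpectrum.zeroLocus_sup, zeroLocus_finsetInf, zeroLocus_finsetInf]
      exact (SmallAlgLib.krullDim_mono h).trans hD
    let A₀ := hfinS.toFinset.filter fun P => Z P ∈ A
    by_cases hA₀ : A₀ = hfinS.toFinset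
    · obtain ⟨C', hC'⟩ := hBne
      have h2 := hB hC'
      rw [hcomp] at h2
      obtain ⟨Q, hQ, rfl⟩ := h2
      obtain ⟨P, hP, P', hP', hne⟩ := hone
      refine ⟨{Q}, hfinS.toFinset \ {Q}, by simpa using hQ, Finset.sdiff_subset, Finset.singleton_nonempty _, ?_,
        Finset.disjoint_sdiff, Finset.union_sdiff_of_subset (by simpa using hQ), mkfam {Q} (by simpa using hQ) ?_⟩
      · rcases eq_or_ne P Q with rfl | h
        · exact ⟨P', by simp [hP', Ne.symm hne]⟩
        · exact ⟨P, by simp [hP, h]⟩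
      · rintro x ⟨hx1, _, ⟨R', hR', rfl⟩, hx2⟩
        refine ⟨⟨Z R', ?_, hx2⟩, ⟨Z Q, hC', by simpa using hx1⟩⟩
        have : R' ∈ A₀ := by rw [hA₀]; exact Finset.sdiff_subset hR'
        exact (Finset.mem_filter.1 this).2
    · refine ⟨A₀, hfinS.toFinset \ A₀, Finset.filter_subset _ _, Finset.sdiff_subset, ?_, ?_,
        Finset.disjoint_sdiff, Finset.union_sdiff_of_subset (Finset.filter_subset _ _), mkfam A₀ (Finset.filter_subset _ _) ?_⟩
      · obtain ⟨C, hC⟩ := hAne
        have h2 := hA hC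
        rw [hcomp] at h2
        obtain ⟨Q, hQ, rfl⟩ := h2
        exact ⟨Q, Finset.mem_filter.2 ⟨hfinS.mem_toFinset.2 hQ, hC⟩⟩
      · rw [Finset.sdiff_nonempty]
        exact fun h => hA₀ (le_antisymm (Finset.filter_subset _ _) h)
      · rintro x ⟨⟨_, ⟨R₁, hR₁, rfl⟩, hx1⟩, ⟨_, ⟨R₂, hR₂, rfl⟩, hx2⟩⟩
        obtain ⟨hR₂m, hR₂A⟩ := Finset.mem_sdiff.1 hR₂
        refine ⟨⟨_, (Finset.mem_filter.1 hR₁).2, hx1⟩, ⟨Z R₂, ?_, hx2⟩⟩
        have h2 : Z R₂ ∈ A ∪ B := by rw [hAB, hcomp]; exact ⟨R₂, hfinS.mem_toFinset.1 hR₂m, rfl⟩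
        exact h2.resolve_left fun h => hR₂A (Finset.mem_filter.2 ⟨hR₂m, h⟩)
  -- back to `R`
  let IA := (A'.inf id).comap mk
  let IB := (B'.inf id).comap mk
  have hquot : ∀ X : Ideal S, ringKrullDim (R ⧸ X.comap mk) = ringKrullDim (S ⧸ X) := fun X => by
    rw [show X.comap mk = X.comap mk ⊔ a from (sup_eq_left.2 (fun r hr => by
      rw [Ideal.mem_comap, Ideal.Quotient.eq_zero_iff_mem.2 hr]; exact zero_mem _)).symm,
      ← ringKrullDim_quot_map (X.comap mk) a]
    refine ringKrullDim_eq_of_ringEquiv (Ideal.quotEquivOfEq ?_)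
    exact Ideal.map_comap_of_surjective mk Ideal.Quotient.mk_surjective X
  have htop : ∀ X : Finset (Ideal S), X ⊆ hfinS.toFinset → X.Nonempty → X.inf id ≠ ⊤ := by
    intro X hX ⟨P, hP⟩ h
    exact (hfinS.mem_toFinset.1 (hX hP)).1.1.ne_top (top_le_iff.1 (h.ge.trans (Finset.inf_le (f := id) hP)))
  have hJ : A'.inf id ⊔ B'.inf id ≠ ⊤ := fun h =>
    (maximalIdeal.isMaximal S).ne_top (top_le_iff.1 (h.ge.trans (sup_le (le_maximalIdeal (htop A' hA' hA'ne))
      (le_maximalIdeal (htop B' hB' hB'ne)))))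
  obtain ⟨δ, hδ⟩ := exists_nat_dim hJ
  have hstrict : ∀ X Y : Finset (Ideal S), X ⊆ hfinS.toFinset → Y ⊆ hfinS.toFinset → Disjoint X Y →
      X.inf id ⊔ Y.inf id ≠ ⊤ → ringKrullDim (S ⧸ (X.inf id ⊔ Y.inf id)) + 1 ≤ ringKrullDim (S ⧸ X.inf id) := by
    intro X Y hX hY hXY hne
    obtain ⟨p, hp, hle, hdim⟩ := exists_prime_dim hne
    obtain ⟨P, hP, hPp⟩ := hp.inf_le'.1 (le_sup_left.trans hle)
    obtain ⟨Q, hQ, hQp⟩ := hp.inf_le'.1 (le_sup_right.trans hle)
    have hPm := hfinS.mem_toFinset.1 (hX hP)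
    haveI : (id P).IsPrime := hPm.1.1
    obtain ⟨x, hxp, hxP⟩ := Set.not_subset.1 (fun h : (p : Set S) ⊆ (id P : Ideal S) => by
      have h1 : Q ≤ P := hQp.trans h
      have h2 : Q = P := le_antisymm h1 (hPm.2 (hfinS.mem_toFinset.1 (hY hQ)).1 h1)
      exact Finset.disjoint_left.1 hXY hP (h2 ▸ hQ))
    rw [← hdim]
    exact (dim_succ_le_of_mem hPp hxp hxP).trans (dim_quot_anti (Finset.inf_le (f := id) hP))
  have hlt : ∀ X : Ideal S, X ≠ ⊤ → (δ : WithBot ℕ∞) + 1 ≤ ringKrullDim (S ⧸ X) →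
      (δ : WithBot ℕ∞) < ringKrullDim (R ⧸ X.comap mk) := by
    intro X hX h
    rw [hquot]
    obtain ⟨e, he⟩ := exists_nat_dim hX
    rw [he] at h ⊢
    have : δ + 1 ≤ e := by exact_mod_cast h
    exact_mod_cast (by omega : δ < e)
  have hsupeq : IA ⊔ IB = (A'.inf id ⊔ B'.inf id).comap mk := by
    rw [← Ideal.comap_map_mk (show a ≤ IA ⊔ IB from le_sup_of_le_left fun r hr => by
      rw [Ideal.mem_comap, Ideal.Quotient.eq_zero_iff_mem.2 hr]; exact zero_mem _), Ideal.map_sup,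
      Ideal.map_comap_of_surjective mk Ideal.Quotient.mk_surjective,
      Ideal.map_comap_of_surjective mk Ideal.Quotient.mk_surjective]
  have hcd : LocCoh.CdLE R (IA ⊓ IB) k := by
    refine cdLE_congr ?_ hk
    rw [← Ideal.comap_inf, ← Finset.inf_union, hcov]
    have h1 : hfinS.toFinset.inf id = (⊥ : Ideal S).radical := by
      rw [← Ideal.sInf_minimalPrimes]
      exact le_antisymm (le_sInf fun P hP => Finset.inf_le (f := id) (hfinS.mem_toFinset.2 hP))
        (Finset.le_inf fun P hP => sInf_le (hfinS.mem_toFinset.1 hP))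
    rw [h1, Ideal.comap_radical, Ideal.radical_idem, ← RingHom.ker_eq_comap_bot, Ideal.mk_ker]
  have hmain := min_connDim_subdim_le (R := R) (a := IA) (b := IB) (δ := δ) (k := k)
    (Ideal.comap_ne_top _ (htop A' hA' hA'ne)) (Ideal.comap_ne_top _ (htop B' hB' hB'ne))
    (by rw [hsupeq, hquot, hδ])
    (hlt _ (htop A' hA' hA'ne) (hδ ▸ hstrict A' B' hA' hB' hdisj hJ))
    (hlt _ (htop B' hB' hB'ne) (hδ ▸ (sup_comm (A'.inf id) (B'.inf id)) ▸
      hstrict B' A' hB' hA' hdisj.symm (sup_comm (A'.inf id) (B'.inf id) ▸ hJ))) hcd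
  refine hmain.trans ?_
  rw [Nat.cast_add, Nat.cast_one, Nat.cast_add, add_comm (k : WithBot ℕ∞)]
  exact add_le_add_left (add_le_add_left (hδ.ge.trans hD') _) _

end Groth.Agent.HLVTLib
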