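import Groth.Agent.NagataCompleteLib.Complete

/-!
Cohen's structure theorem: a complete Noetherian local domain is finite over a power series ring
over a coefficient ring, with the same residue field and dimension.
-/

set_option autoImplicit false
set_option backward.isDefEq.respectTransparency false
set_option maxHeartbeats 1000000
universe u

open IsLocalRing

noncomputable section

namespace Groth.Agent.HLVTLib

open NagataCompleteLib

local instance {σ k : Type*} [CommRing k] [IsDomain k] : IsDomain (MvPowerSeries σ k) :=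
  NoZeroDivisors.to_isDomain _

theorem exists_normalization {R : Type u} [CommRing R] [IsDomain R] [IsLocalRing R] [IsNoetherianRing R]
    [IsAdicComplete (maximalIdeal R) R] {Λ : Type u} [CommRing Λ] [IsDomain Λ] [IsLocalRing Λ] [IsNoetherianRing Λ]
    [IsAdicComplete (maximalIdeal Λ) Λ] (v : Λ →+* R) [IsLocalHom v]
    (hres : Function.Surjective ((residue R).comp v))
    {a m d : ℕ} (π : Fin a → Λ) (hπ : Ideal.span (Set.range π) = maximalIdeal Λ)
    (y : Fin m → R) (hy : ∀ i, y i ∈ maximalIdeal R)
    (hrad : maximalIdeal R ≤ ((maximalIdeal Λ).map v ⊔ Ideal.span (Set.range y)).radical)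
    (hd : ringKrullDim R = d) (had : a + m ≤ d) :
    ∃ g : MvPowerSeries (Fin m) Λ →+* R, g.Finite ∧ Function.Injective g ∧
      Function.Surjective ((residue R).comp g) ∧ IsAdicComplete (maximalIdeal (MvPowerSeries (Fin m) Λ)) (MvPowerSeries (Fin m) Λ) := by
  classical
  letI : Algebra Λ R := v.toAlgebra
  obtain ⟨g, hg⟩ := ArtFunLib.ps_exists_lift (Λ := Λ) (maximalIdeal R) y hy
  let R0 := MvPowerSeries (Fin m) Λ
  letI : Algebra R0 R := g.toRingHom.toAlgebra
  let J : Ideal R := (maximalIdeal Λ).map v ⊔ Ideal.span (Set.range y)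
  have hmap : J ≤ (maximalIdeal R0).map (algebraMap R0 R) := by
    refine sup_le (Ideal.map_le_iff_le_comap.2 fun l hl => ?_) (Ideal.span_le.2 ?_)
    · rw [Ideal.mem_comap, ← show g (algebraMap Λ R0 l) = v l from g.commutes l]
      refine Ideal.mem_map_of_mem (algebraMap R0 R) ?_
      rw [mem_maximalIdeal, mem_nonunits_iff, MvPowerSeries.isUnit_iff_constantCoeff]
      simpa [R0, MvPowerSeries.algebraMap_apply, ← mem_nonunits_iff, ← mem_maximalIdeal] using hl
    · rintro _ ⟨i, rfl⟩
      rw [← hg i]
      refine Ideal.mem_map_of_mem (algebraMap R0 R) ?_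
      rw [mem_maximalIdeal, mem_nonunits_iff, MvPowerSeries.isUnit_iff_constantCoeff, MvPowerSeries.constantCoeff_X]
      exact not_isUnit_zero
  obtain ⟨N, hN⟩ := Ideal.exists_radical_pow_le_of_fg J J.radical.fg_of_isNoetherianRing
  have hmN : maximalIdeal R ^ N ≤ (maximalIdeal R0).map (algebraMap R0 R) :=
    (Ideal.pow_right_mono hrad N).trans (hN.trans hmap)
  have hle : (maximalIdeal R0).map (algebraMap R0 R) ≤ maximalIdeal R := by
    refine Ideal.map_le_iff_le_comap.2 fun f hf => ?_
    rw [mem_maximalIdeal, mem_nonunits_iff, MvPowerSeries.isUnit_iff_constantCoeff] at hf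
    have h0 : f - MvPowerSeries.C (MvPowerSeries.constantCoeff f) ∈
        RingHom.ker (MvPowerSeries.constantCoeff (σ := Fin m) (R := Λ)) := by simp
    rw [WildQuotLib.ker_constantCoeff_eq] at h0
    rw [Ideal.mem_comap, show f = (f - MvPowerSeries.C (MvPowerSeries.constantCoeff f)) +
      algebraMap Λ R0 (MvPowerSeries.constantCoeff f) by simp [R0, MvPowerSeries.algebraMap_apply], map_add]
    refine add_mem ?_ ?_
    · have h1 := Ideal.mem_map_of_mem (algebraMap R0 R) h0
      rw [Ideal.map_span] at h1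
      refine Ideal.span_le.2 ?_ h1
      rintro _ ⟨_, ⟨i, rfl⟩, rfl⟩
      show g (MvPowerSeries.X i) ∈ maximalIdeal R
      rw [hg i]; exact hy i
    · show g (algebraMap Λ R0 _) ∈ _
      rw [g.commutes, mem_maximalIdeal, mem_nonunits_iff]
      exact fun hu => hf (IsLocalHom.map_nonunit (f := v) _ hu)
  -- finiteness modulo the maximal ideal
  have hspan : ∀ i, ∃ F : Submodule R0 R, F.FG ∧ (⊤ : Submodule R0 R) ≤ F ⊔ (maximalIdeal R ^ i).restrictScalars R0 := by
    intro i
    induction i with
    | zero => exact ⟨⊥, Submodule.fg_bot, by simp⟩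
    | succ i ih =>
      obtain ⟨F, hF, hFle⟩ := ih
      obtain ⟨s, hs⟩ := (maximalIdeal R ^ i).fg_of_isNoetherianRing
      refine ⟨F ⊔ Submodule.span R0 (s : Set R), hF.sup (Submodule.fg_span s.finite_toSet), hFle.trans ?_⟩
      refine sup_le (le_sup_left.trans le_sup_left) fun z hz => ?_
      rw [Submodule.restrictScalars_mem, ← hs] at hz
      obtain ⟨c, -, rfl⟩ := Submodule.mem_span_finset.1 hz
      refine Submodule.sum_mem _ fun x hx => ?_
      obtain ⟨l, hl⟩ := hres (residue R (c x))
      rw [smul_eq_mul, show c x * x = v l * x + (c x - v l) * x by ring]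
      refine add_mem (Submodule.mem_sup_left (Submodule.mem_sup_right ?_)) (Submodule.mem_sup_right ?_)
      · rw [← show g (algebraMap Λ R0 l) = v l from g.commutes l]
        exact Submodule.smul_mem _ (algebraMap Λ R0 l : R0) (Submodule.subset_span hx)
      · rw [Submodule.restrictScalars_mem, pow_succ']
        refine Ideal.mul_mem_mul ?_ (hs ▸ Submodule.subset_span hx)
        rw [← residue_eq_zero_iff, map_sub, sub_eq_zero]
        exact hl.symm
  obtain ⟨_, _, _, hcompl⟩ := ArtFunLib.exists_psCRing (Λ := Λ) (k := ResidueField Λ) residue_surjective m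
  haveI := hcompl
  haveI : IsHausdorff (maximalIdeal R0) R := ⟨fun z hz => by
    refine IsHausdorff.haus (inferInstance : IsHausdorff (maximalIdeal R) R) z fun k => SModEq.zero.2 ?_
    have h1 := SModEq.zero.1 (hz k)
    rw [Ideal.smul_top_eq_map, Submodule.restrictScalars_mem, Ideal.map_pow] at h1
    rw [smul_eq_mul, Ideal.mul_top]
    exact Ideal.pow_right_mono hle k h1⟩
  obtain ⟨F, hF, hFle⟩ := hspan N
  haveI : Module.Finite R0 F := Module.Finite.iff_fg.2 hF
  haveI hfin : Module.Finite R0 R := by
    refine AdicLemmas.module_finite_of_quotient_finite (maximalIdeal R0) R ?_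
    refine Module.Finite.of_surjective ((maximalIdeal R0 • ⊤ : Submodule R0 R).mkQ.comp F.subtype) fun c => ?_
    obtain ⟨z, rfl⟩ := Submodule.mkQ_surjective _ c
    obtain ⟨f, hf, w, hw, rfl⟩ := Submodule.mem_sup.1 (hFle (show z ∈ ⊤ from trivial))
    refine ⟨⟨f, hf⟩, (Submodule.Quotient.eq _).2 ?_⟩
    rw [Ideal.smul_top_eq_map, Submodule.restrictScalars_mem]
    show f - (f + w) ∈ _
    rw [sub_add_cancel_left]
    exact neg_mem (hmN hw)
  haveI : IsDomain R0 := NoZeroDivisors.to_isDomain _
  refine ⟨g.toRingHom, hfin, ?_, fun z => ?_, hcompl⟩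
  swap
  · obtain ⟨l, hl⟩ := hres z
    refine ⟨algebraMap Λ R0 l, ?_⟩
    rw [RingHom.comp_apply, AlgHom.toRingHom_eq_coe, RingHom.coe_coe, g.commutes]
    exact hl
  rw [RingHom.injective_iff_ker_eq_bot, Submodule.eq_bot_iff]
  intro r hr
  by_contra hr0
  let P := RingHom.ker g.toRingHom
  have hP : ringKrullDim (R0 ⧸ P) = ringKrullDim R := by
    refine GrSegreLib.ringKrullDim_eq_of_integral_injective (RingHom.kerLift g.toRingHom)
      (RingHom.kerLift_injective g.toRingHom) (RingHom.IsIntegral.tower_top (Ideal.Quotient.mk P) _ ?_)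
    exact (algebraMap_isIntegral_iff.2 (Algebra.IsIntegral.of_finite R0 R) : (algebraMap R0 R).IsIntegral)
  have h1 : ringKrullDim (R0 ⧸ P) ≤ ringKrullDim (R0 ⧸ Ideal.span {r}) :=
    ringKrullDim_le_of_surjective (Ideal.Quotient.factor ((Ideal.span_singleton_le_iff_mem P).2 hr))
      (Ideal.Quotient.factor_surjective _)
  have h2 := ringKrullDim_quotient_succ_le_of_nonZeroDivisor (mem_nonZeroDivisors_of_ne_zero hr0)
  have h3 : ringKrullDim R0 ≤ (d : WithBot ℕ∞) := by
    refine (ringKrullDim_le_spanFinrank_maximalIdeal _).trans (Nat.cast_le.2 ?_)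
    have hgen : maximalIdeal R0 = Ideal.span (Set.range (fun i => algebraMap Λ R0 (π i)) ∪
        Set.range (MvPowerSeries.X : Fin m → R0)) := by
      refine le_antisymm (fun f hf => ?_) (Ideal.span_le.2 ?_)
      · have h0 : f - MvPowerSeries.C (MvPowerSeries.constantCoeff f) ∈
            RingHom.ker (MvPowerSeries.constantCoeff (σ := Fin m) (R := Λ)) := by simp
        rw [WildQuotLib.ker_constantCoeff_eq] at h0
        rw [show f = (f - MvPowerSeries.C (MvPowerSeries.constantCoeff f)) +
          algebraMap Λ R0 (MvPowerSeries.constantCoeff f) by simp [R0, MvPowerSeries.algebraMap_apply]]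
        refine add_mem (Ideal.span_mono Set.subset_union_right h0) ?_
        have hc : MvPowerSeries.constantCoeff f ∈ maximalIdeal Λ := by
          rw [mem_maximalIdeal, mem_nonunits_iff] at hf ⊢
          rwa [MvPowerSeries.isUnit_iff_constantCoeff] at hf
        rw [← hπ] at hc
        have := Ideal.mem_map_of_mem (algebraMap Λ R0) hc
        rw [Ideal.map_span, ← Set.range_comp] at this
        exact Ideal.span_mono Set.subset_union_left this
      · intro f hf
        rw [SetLike.mem_coe, mem_maximalIdeal, mem_nonunits_iff, MvPowerSeries.isUnit_iff_constantCoeff]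
        rcases hf with ⟨i, rfl⟩ | ⟨i, rfl⟩
        · have : π i ∈ maximalIdeal Λ := hπ ▸ Ideal.subset_span ⟨i, rfl⟩
          simpa [R0, MvPowerSeries.algebraMap_apply, ← mem_nonunits_iff, ← mem_maximalIdeal] using this
        · simp
    rw [hgen]
    refine (Submodule.spanFinrank_span_le_ncard_of_finite ((Set.finite_range _).union (Set.finite_range _))).trans ?_
    refine (Set.ncard_union_le _ _).trans (le_trans (Nat.add_le_add ?_ ?_) had)
    · rw [← Set.image_univ]
      exact (Set.ncard_image_le Set.finite_univ).trans (by simp [Set.ncard_univ])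
    · rw [← Set.image_univ]
      exact (Set.ncard_image_le Set.finite_univ).trans (by simp [Set.ncard_univ])
  rw [hP, hd] at h1
  have h4 : (d : WithBot ℕ∞) + 1 ≤ d := (add_le_add_left h1 1).trans (h2.trans h3)
  have h5 : ((d + 1 : ℕ) : WithBot ℕ∞) ≤ (d : WithBot ℕ∞) := by push_cast; exact h4
  have : d + 1 ≤ d := by exact_mod_cast h5
  omega

/-- **Cohen.** Finite normalisation of a complete local domain. -/
theorem exists_cohen_normalization (R : Type u) [CommRing R] [IsDomain R] [IsLocalRing R] [IsNoetherianRing R]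
    [IsAdicComplete (maximalIdeal R) R] {d : ℕ} (hd : ringKrullDim R = d) :
    ∃ (Λ : Type u) (_ : CommRing Λ) (_ : IsDomain Λ) (_ : IsLocalRing Λ) (_ : IsNoetherianRing Λ) (m : ℕ)
      (g : MvPowerSeries (Fin m) Λ →+* R),
      (IsField Λ ∨ CAlg.IsCohenRing Λ) ∧ g.Finite ∧ Function.Injective g ∧
      Function.Surjective ((residue R).comp g) ∧
      IsRegularLocalRing (MvPowerSeries (Fin m) Λ) ∧
      IsAdicComplete (maximalIdeal (MvPowerSeries (Fin m) Λ)) (MvPowerSeries (Fin m) Λ) ∧
      ringKrullDim (MvPowerSeries (Fin m) Λ) = d := by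
  classical
  have dimeq : ∀ {A : Type u} [CommRing A] (g : A →+* R), g.Finite → Function.Injective g →
      ringKrullDim A = d := fun g hg hgi => by
    rw [GrSegreLib.ringKrullDim_eq_of_integral_injective g hgi (RingHom.IsIntegral.of_finite hg), hd]
  have hsop : ∀ {f : R}, f ∈ maximalIdeal R → f ≠ 0 →
      ∃ y : Fin (d - 1) → R, (∀ i, y i ∈ maximalIdeal R) ∧
        maximalIdeal R ≤ (Ideal.span (insert f (Set.range y))).radical := fun {f} hfm hf0 => by
    obtain ⟨y, -, hy, hrad⟩ := SopLib.exists_sop_extending hd hfm (fun p hp hfp => hf0 (by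
      rw [show p = ⊥ by simpa [IsDomain.minimalPrimes_eq_singleton_bot] using hp] at hfp
      simpa using hfp)) 0
    exact ⟨y, hy, hrad⟩
  have hd1 : ¬ IsField R → 1 ≤ d := fun hf => by
    by_contra h
    have h0 : ringKrullDim R = 0 := by rw [hd]; norm_num; omega
    haveI : Ring.KrullDimLE 0 R := Ring.krullDimLE_iff.2 h0.le
    exact hf Ring.KrullDimLE.isField_of_isDomain
  have equi : ∀ (k₀ : Type u) [Field k₀] [Algebra k₀ R],
    ∃ (Λ : Type u) (_ : CommRing Λ) (_ : IsDomain Λ) (_ : IsLocalRing Λ) (_ : IsNoetherianRing Λ) (m : ℕ)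
      (g : MvPowerSeries (Fin m) Λ →+* R),
      (IsField Λ ∨ CAlg.IsCohenRing Λ) ∧ g.Finite ∧ Function.Injective g ∧
      Function.Surjective ((residue R).comp g) ∧
      IsRegularLocalRing (MvPowerSeries (Fin m) Λ) ∧
      IsAdicComplete (maximalIdeal (MvPowerSeries (Fin m) Λ)) (MvPowerSeries (Fin m) Λ) ∧
      ringKrullDim (MvPowerSeries (Fin m) Λ) = d := by
    intro k₀ _ _
    obtain ⟨s, hs⟩ := PSStructLib.exists_coefficientField R k₀
    haveI : IsLocalHom s := ⟨fun c hc => isUnit_iff_ne_zero.2 fun h0 => by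
      rw [h0, map_zero] at hc; exact not_isUnit_zero hc⟩
    haveI : IsAdicComplete (maximalIdeal (ResidueField R)) (ResidueField R) := by
      rw [isField_iff_maximalIdeal_eq.1 (Field.toIsField _)]; infer_instance
    obtain ⟨m, y, hy, hrad, hm⟩ : ∃ (m : ℕ) (y : Fin m → R), (∀ i, y i ∈ maximalIdeal R) ∧
        maximalIdeal R ≤ (Ideal.span (Set.range y)).radical ∧ m ≤ d := by
      by_cases hf : IsField R
      · exact ⟨0, Fin.elim0, fun i => i.elim0, by rw [isField_iff_maximalIdeal_eq.1 hf]; exact bot_le, Nat.zero_le _⟩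
      obtain ⟨f, hfm, hf0⟩ : ∃ f ∈ maximalIdeal R, f ≠ 0 :=
        Submodule.exists_mem_ne_zero_of_ne_bot fun h => hf (isField_iff_maximalIdeal_eq.2 h)
      obtain ⟨y, hy, hrad⟩ := hsop hfm hf0
      have h1 := hd1 hf
      refine ⟨d - 1 + 1, Fin.snoc y f, fun i => ?_, hrad.trans (Ideal.radical_mono (Ideal.span_mono ?_)), by omega⟩
      · refine Fin.lastCases ?_ (fun j => ?_) i
        · simpa using hfm
        · simpa using hy j
      · rintro _ (rfl | ⟨i, rfl⟩)
        · exact ⟨Fin.last _, by simp⟩
        · exact ⟨i.castSucc, by simp⟩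
    obtain ⟨g, hg, hginj, hgres, hc⟩ := exists_normalization (a := 0) (m := m) (Λ := ResidueField R) s
      (fun c => ⟨c, hs c⟩) Fin.elim0 (by
        rw [isField_iff_maximalIdeal_eq.1 (Field.toIsField _), Set.range_eq_empty Fin.elim0, Ideal.span_empty])
      y hy (hrad.trans (Ideal.radical_mono le_sup_right)) hd (by omega)
    exact ⟨ResidueField R, inferInstance, inferInstance, inferInstance, inferInstance, m, g,
      Or.inl (Field.toIsField _), hg, hginj, hgres, WildQuotLib.isRegularLocalRing _ m, hc,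
      dimeq g hg hginj⟩
  obtain ⟨p, hp⟩ := CharP.exists R
  rcases CharP.char_is_prime_or_zero R p with hpr | rfl
  · haveI := Fact.mk hpr
    exact @equi (ULift.{u} (ZMod p)) _ (((ZMod.castHom (dvd_refl p) R).comp
      ULift.ringEquiv.toRingHom).toAlgebra)
  haveI : CharZero R := CharP.charP_to_charZero R
  obtain ⟨q, hq⟩ := CharP.exists (ResidueField R)
  rcases CharP.char_is_prime_or_zero (ResidueField R) q with hqp | rfl
  swap
  · haveI : CharZero (ResidueField R) := CharP.charP_to_charZero _
    let j : ℚ →+* R := IsLocalization.lift (M := nonZeroDivisors ℤ) (g := Int.castRingHom R) fun z => by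
      by_contra hu
      have : (Int.castRingHom R z.1) ∈ maximalIdeal R := hu
      rw [← residue_eq_zero_iff, eq_intCast, map_intCast, Int.cast_eq_zero] at this
      exact nonZeroDivisors.coe_ne_zero z this
    exact @equi (ULift.{u} ℚ) _ ((j.comp ULift.ringEquiv.toRingHom).toAlgebra)
  -- mixed characteristic
  have hqm : (q : R) ∈ maximalIdeal R := by
    rw [← residue_eq_zero_iff, map_natCast, CharP.cast_eq_zero]
  have h1 : 1 ≤ d := hd1 fun hf => Nat.cast_ne_zero.2 hqp.ne_zero
    (by simpa [isField_iff_maximalIdeal_eq.1 hf] using hqm : (q : R) = 0)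
  obtain ⟨W, _, _, hW, hW', ⟨e⟩⟩ := CohenRingLib.exists_cohenRing (ResidueField R)
  obtain ⟨v, hv, hve⟩ := CohenRingLib.exists_lift_residue hW e.toRingHom
  haveI := hv
  haveI := CohenRingLib.isDomain_of_cohen hW
  haveI := CohenRingLib.noetherian_of_cohen hW
  haveI := CohenRingLib.isAdicComplete_of_cohen hW
  haveI : CharP (ResidueField W) q := charP_of_injective_ringHom (f := e.symm.toRingHom) e.symm.injective q
  obtain ⟨y, hy, hrad⟩ := hsop hqm (Nat.cast_ne_zero.2 hqp.ne_zero)
  obtain ⟨g, hg, hginj, hgres, hc⟩ := exists_normalization (a := 1) (m := d - 1) v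
    (fun c => by
      obtain ⟨w, hw⟩ := residue_surjective (e.symm c)
      exact ⟨w, by rw [RingHom.comp_apply, hve, hw]; simp⟩)
    (fun _ => (q : W)) (by rw [Set.range_const, CohenRingLib.maximalIdeal_of_cohen hW q])
    y hy
    (hrad.trans (Ideal.radical_mono (Ideal.span_le.2 (by
      rintro _ (rfl | ⟨i, rfl⟩)
      · refine Ideal.mem_sup_left ?_
        rw [CohenRingLib.maximalIdeal_of_cohen hW q, Ideal.map_span, Set.image_singleton, map_natCast]
        exact Ideal.mem_span_singleton_self _
      · exact Ideal.mem_sup_right (Ideal.subset_span ⟨i, rfl⟩)))))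
    hd (by omega)
  haveI : IsRegularRing W := by
    rcases hW with ⟨hf, -⟩ | ⟨_, hdvr, -⟩
    · letI := hf.toField; infer_instance
    · haveI := hdvr; infer_instance
  haveI : IsRegularRing (MvPowerSeries (Fin (d - 1)) W) := S5784.result W (d - 1)
  exact ⟨W, inferInstance, inferInstance, inferInstance, inferInstance, d - 1, g, hW', hg, hginj, hgres,
    IsRegularLocalRing.of_isRegularRing_of_isLocalRing _, hc, dimeq g hg hginj⟩

/-- A regular complete local domain over which a complete local domain is finite. -/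
theorem exists_regular_subring (R : Type u) [CommRing R] [IsDomain R] [IsLocalRing R] [IsNoetherianRing R]
    [IsAdicComplete (maximalIdeal R) R] {d : ℕ} (hd : ringKrullDim R = d) :
    ∃ (A : Type u) (_ : CommRing A) (_ : IsDomain A) (_ : IsRegularLocalRing A) (g : A →+* R),
      IsAdicComplete (maximalIdeal A) A ∧ g.Finite ∧ Function.Injective g ∧ ringKrullDim A = d := by
  obtain ⟨Λ, _, _, _, _, m, g, -, hg, hginj, -, hreg, hc, hdim⟩ := exists_cohen_normalization R hd
  exact ⟨MvPowerSeries (Fin m) Λ, inferInstance, inferInstance, hreg, g, hc, hg, hginj, hdim⟩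

end Groth.Agent.HLVTLib
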