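import Mathlib
import Groth.Agent.S17754

/-! Symbolic powers in a complete local domain are cofinal with the powers when `dim A/p = 1`. -/

set_option autoImplicit false
universe u

open IsLocalRing

namespace Groth.Agent.HLVTLib

variable {A : Type u} [CommRing A]

/-- The `m`-th symbolic power. -/
noncomputable def symb (p : Ideal A) [p.IsPrime] (m : ℕ) : Ideal A :=
  ((Ideal.map (algebraMap A (Localization.AtPrime p)) p) ^ m).comap (algebraMap A (Localization.AtPrime p))

theorem pow_le_symb (p : Ideal A) [p.IsPrime] (m : ℕ) : p ^ m ≤ symb p m := by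
  rw [symb, ← Ideal.map_pow]
  exact Ideal.le_comap_map

theorem symb_antitone (p : Ideal A) [p.IsPrime] : Antitone (symb p) := fun _ _ h =>
  Ideal.comap_mono (Ideal.pow_le_pow_right h)

theorem symb_le (p : Ideal A) [p.IsPrime] {m : ℕ} (hm : 1 ≤ m) : symb p m ≤ p := by
  refine (symb_antitone p hm).trans (le_of_eq ?_)
  rw [symb, pow_one]
  exact IsLocalization.comap_map_of_isPrime_disjoint p.primeCompl (Localization.AtPrime p) ‹p.IsPrime› (Set.disjoint_left.2 fun x hx hxp => hx hxp)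

theorem mem_of_mul_mem_symb (p : Ideal A) [p.IsPrime] (m : ℕ) {t x : A} (ht : t ∉ p) (h : t * x ∈ symb p m) :
    x ∈ symb p m := by
  rw [symb, Ideal.mem_comap, map_mul] at h
  exact (Ideal.unit_mul_mem_iff_mem _ (IsLocalization.map_units (Localization.AtPrime p) (⟨t, ht⟩ : p.primeCompl))).1 h

theorem exists_notMem_mul_mem (p : Ideal A) [p.IsPrime] {m : ℕ} {x : A} (hx : x ∈ symb p m) :
    ∃ s ∉ p, s * x ∈ p ^ m := by
  rw [symb, Ideal.mem_comap, ← Ideal.map_pow, IsLocalization.mem_map_algebraMap_iff p.primeCompl] at hx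
  obtain ⟨⟨⟨a, ha⟩, ⟨s, hs⟩⟩, h⟩ := hx
  simp only at h
  rw [← map_mul, IsLocalization.eq_iff_exists p.primeCompl] at h
  obtain ⟨⟨c, hc⟩, hc'⟩ := h
  refine ⟨c * s, fun h => (Ideal.IsPrime.mem_or_mem ‹p.IsPrime› h).elim hc hs, ?_⟩
  rw [show c * s * x = c * (x * s) by ring, hc']
  exact Ideal.mul_mem_left _ _ ha

variable [IsDomain A] [IsLocalRing A] [IsNoetherianRing A]

omit [IsLocalRing A] in
theorem iInf_symb (p : Ideal A) [p.IsPrime] : ⨅ m, symb p m = ⊥ := by
  refine eq_bot_iff.2 fun x hx => ?_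
  haveI : IsNoetherianRing (Localization.AtPrime p) := IsLocalization.isNoetherianRing p.primeCompl _ inferInstance
  have hne : Ideal.map (algebraMap A (Localization.AtPrime p)) p ≠ ⊤ := by
    rw [Localization.AtPrime.map_eq_maximalIdeal]
    exact (maximalIdeal.isMaximal _).ne_top
  have h1 : algebraMap A (Localization.AtPrime p) x ∈ ⨅ m, (Ideal.map (algebraMap A (Localization.AtPrime p)) p) ^ m :=
    Ideal.mem_iInf.2 fun m => Ideal.mem_iInf.1 hx m
  rw [Ideal.iInf_pow_eq_bot_of_isLocalRing _ hne, Ideal.mem_bot] at h1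
  exact (IsLocalization.injective (Localization.AtPrime p) p.primeCompl_le_nonZeroDivisors
    (by rw [h1, map_zero]))

theorem exists_maximalIdeal_pow_mul_symb_le (p : Ideal A) [p.IsPrime] (hp : ringKrullDim (A ⧸ p) = 1) {n : ℕ} :
    ∃ c : ℕ, maximalIdeal A ^ c * symb p n ≤ p ^ n := by
  classical
  let J : Ideal A := (p ^ n).colon (symb p n : Set A)
  have hJp : ¬ J ≤ p := by
    intro hle
    obtain ⟨s, hs⟩ := (symb p n).fg_of_isNoetherianRing
    choose t ht ht' using fun x : s => exists_notMem_mul_mem p (m := n) (x := x.1) (hs ▸ Submodule.subset_span x.2)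
    have hprod : (∏ x, t x) ∈ J := by
      rw [Submodule.mem_colon]
      intro z hz
      rw [SetLike.mem_coe, ← hs] at hz
      induction hz using Submodule.span_induction with
      | mem x hx =>
        obtain ⟨c, hc⟩ := Finset.dvd_prod_of_mem t (Finset.mem_univ ⟨x, hx⟩)
        rw [smul_eq_mul, hc, show t ⟨x, hx⟩ * c * x = c * (t ⟨x, hx⟩ * x) by ring]
        exact Ideal.mul_mem_left _ _ (ht' ⟨x, hx⟩)
      | zero => rw [smul_zero]; exact zero_mem _
      | add a b _ _ ha hb => rw [smul_add]; exact add_mem ha hb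
      | smul r a _ ha => rw [smul_comm]; exact Ideal.mul_mem_left _ r ha
    obtain ⟨x, -, hx⟩ := Ideal.IsPrime.prod_mem_iff.1 (hle hprod)
    exact ht x hx
  have hrad : maximalIdeal A ≤ J.radical := by
    rw [Ideal.radical_eq_sInf]
    refine le_sInf fun q hq => ?_
    obtain ⟨hle, hqp⟩ := hq
    by_contra hqm
    have hpq : p ≤ q := by
      intro x hx
      refine hqp.mem_of_pow_mem n (hle ?_)
      rw [Submodule.mem_colon]
      intro z _
      exact Ideal.mul_mem_right z _ (Ideal.pow_mem_pow hx n)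
    have hlt : p < q := lt_of_le_of_ne hpq fun h => hJp (h ▸ hle)
    have hqm' : q < maximalIdeal A := lt_of_le_of_ne (le_maximalIdeal hqp.ne_top) fun h => hqm h.ge
    rw [ringKrullDim_quotient] at hp
    let c0 : PrimeSpectrum.zeroLocus (p : Set A) := ⟨⟨p, ‹_›⟩, fun _ h => h⟩
    let c1 : PrimeSpectrum.zeroLocus (p : Set A) := ⟨⟨q, hqp⟩, hpq⟩
    let c2 : PrimeSpectrum.zeroLocus (p : Set A) := ⟨closedPoint A, le_maximalIdeal Ideal.IsPrime.ne_top'⟩
    have h01 : c0 < c1 := hlt
    have h12 : c1 < c2 := hqm'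
    have h1 := Order.LTSeries.length_le_krullDim (((RelSeries.singleton _ c0).snoc c1 h01).snoc c2 (by rw [RelSeries.last_snoc]; exact h12))
    rw [hp] at h1
    have : (2 : ℕ) ≤ 1 := by exact_mod_cast h1
    omega
  obtain ⟨c, hc⟩ := Ideal.exists_pow_le_of_le_radical_of_fg hrad (maximalIdeal A).fg_of_isNoetherianRing
  refine ⟨c, Ideal.mul_le.2 fun a ha b hb => ?_⟩
  exact Submodule.mem_colon.1 (hc ha) b hb

theorem exists_symb_le_pow [IsAdicComplete (maximalIdeal A) A] (p : Ideal A) [p.IsPrime]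
    (hp : ringKrullDim (A ⧸ p) = 1) (n : ℕ) : ∃ m : ℕ, n ≤ m ∧ symb p m ≤ p ^ n := by
  obtain ⟨c, hc⟩ := exists_maximalIdeal_pow_mul_symb_le p hp (n := n)
  obtain ⟨k, hk⟩ := Ideal.exists_pow_inf_eq_pow_smul (maximalIdeal A) (symb p n : Submodule A A)
  obtain ⟨s, hs⟩ := S17754.result A (symb p) (symb_antitone p) (iInf_symb p) (k + c)
  refine ⟨max s n, le_max_right _ _, fun x hx => hc ?_⟩
  have h1 : x ∈ maximalIdeal A ^ (k + c) • (⊤ : Submodule A A) ⊓ (symb p n : Submodule A A) :=
    ⟨by rw [smul_eq_mul, Ideal.mul_top]; exact hs (symb_antitone p (le_max_left _ _) hx),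
      symb_antitone p (le_max_right _ _) hx⟩
  rw [hk (k + c) (by omega), Nat.add_sub_cancel_left] at h1
  exact Submodule.smul_mono le_rfl inf_le_right h1

end Groth.Agent.HLVTLib
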