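import Groth.Agent.HLVTLib.CohenFinite
import Groth.Agent.HLVTLib.Symbolic
import Groth.Agent.GorLib.Ring
import Groth.Agent.FiniteCompleteLib.Basic
import Groth.Agent.LocCohLib.TopMono
import Groth.Agent.LocCohLib.Flasque
import Groth.Agent.S11642
import Groth.Agent.RegLocLib.Basic

/-!
Hartshorne–Lichtenbaum vanishing for a complete local domain.
-/

set_option autoImplicit false
set_option maxHeartbeats 400000
universe u

open CategoryTheory IsLocalRing Polynomial

noncomputable section

namespace Groth.Agent.HLVTLib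

open LocCohLib

/-- The Gorenstein case. -/
theorem subsingleton_H_top_gorenstein (B : Type u) [CommRing B] [LocCoh.IsGorensteinLocalRing B] [IsDomain B]
    [IsAdicComplete (maximalIdeal B) B] {n : ℕ} (hn : ringKrullDim B = n) (q : Ideal B) [q.IsPrime]
    (hq : ringKrullDim (B ⧸ q) = 1) :
    Subsingleton ((localCohomology q n).obj (ModuleCat.of B B) : Type u) := by
  refine subsingleton_of_forall_eq 0 fun x => ?_
  obtain ⟨k, y, rfl⟩ := exists_ι x
  obtain ⟨m, hm, hle⟩ := exists_symb_le_pow q hq (k + 1)
  have hm1 : 1 ≤ m := by omega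
  have hkm : k ≤ m := by omega
  let P := symb q m
  have hPq : P ≤ q := symb_le q hm1
  haveI : Nontrivial (B ⧸ P) := Ideal.Quotient.nontrivial_iff.2 fun h =>
    ‹q.IsPrime›.ne_top (top_le_iff.1 (h.ge.trans hPq))
  have hdepth : 0 < LocCoh.depth B (B ⧸ P) := by
    obtain ⟨t, htm, htq⟩ : ∃ t ∈ maximalIdeal B, t ∉ q := by
      by_contra! h
      have : q = maximalIdeal B := le_antisymm (le_maximalIdeal ‹q.IsPrime›.ne_top) h
      subst this
      haveI : Ring.KrullDimLE 0 (B ⧸ maximalIdeal B) := by
        letI := Ideal.Quotient.field (maximalIdeal B); infer_instance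
      have h0 : ringKrullDim (B ⧸ maximalIdeal B) ≤ 0 := Ring.krullDimLE_iff.1 inferInstance
      rw [hq] at h0
      exact absurd h0 (by norm_num)
    have hI : maximalIdeal B • (⊤ : Submodule B (B ⧸ P)) ≠ ⊤ := fun h =>
      top_ne_bot (Submodule.eq_bot_of_le_smul_of_le_jacobson_bot (maximalIdeal B) (⊤ : Submodule B (B ⧸ P))
        Module.Finite.fg_top h.ge (jacobson_eq_maximalIdeal ⊥ bot_ne_top).ge)
    refine pos_iff_ne_zero.2 fun h0 => ?_
    obtain ⟨z, hz, hz'⟩ := (Groth.Agent.Depth.idealDepth_eq_zero_iff hI).1 h0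
    obtain ⟨b, rfl⟩ := Ideal.Quotient.mk_surjective z
    refine hz (Ideal.Quotient.eq_zero_iff_mem.2 (mem_of_mul_mem_symb q m htq ?_))
    have h1 := hz' t htm
    rwa [Algebra.smul_def, Ideal.Quotient.algebraMap_eq, ← map_mul, Ideal.Quotient.eq_zero_iff_mem] at h1
  haveI hE : Subsingleton (Abelian.Ext.{u} (ModuleCat.of B (B ⧸ P)) (ModuleCat.of B B) n) :=
    (S11642.result B n hn (B ⧸ P)).1 hdepth
  let a : quot q m ⟶ ModuleCat.of B (B ⧸ P) :=
    ModuleCat.ofHom (Submodule.factor (pow_le_symb q m))
  let b : ModuleCat.of B (B ⧸ P) ⟶ quot q k :=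
    ModuleCat.ofHom (Submodule.factor (hle.trans (Ideal.pow_le_pow_right (Nat.le_succ k))))
  have hab : qmap q hkm = a ≫ b := by
    refine ModuleCat.hom_ext (LinearMap.ext fun z => ?_)
    obtain ⟨z, rfl⟩ := Submodule.Quotient.mk_surjective _ z
    exact qmap_mk _ _ z
  rw [← ι_comp hkm y, hab, ← Abelian.Ext.mk₀_comp_mk₀, Abelian.Ext.comp_assoc_of_second_deg_zero,
    Subsingleton.elim ((Abelian.Ext.mk₀ b).comp y (zero_add n)) 0, Abelian.Ext.comp_zero, map_zero]

/-- Hartshorne–Lichtenbaum vanishing at a prime of coheight one of a complete local domain. -/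
theorem subsingleton_H_top_prime (R : Type u) [CommRing R] [IsDomain R] [IsLocalRing R] [IsNoetherianRing R]
    [IsAdicComplete (maximalIdeal R) R] {n : ℕ} (hn : ringKrullDim R = n) (p : Ideal R) [p.IsPrime]
    (hp : ringKrullDim (R ⧸ p) = 1) :
    Subsingleton ((localCohomology p n).obj (ModuleCat.of R R) : Type u) := by
  classical
  obtain ⟨A, _, _, _, g, hAc, hg, hginj, hAdim⟩ := exists_regular_subring R hn
  haveI := hAc
  letI : Algebra A R := g.toAlgebra
  haveI : Module.Finite A R := hg
  haveI : Algebra.IsIntegral A R := Algebra.IsIntegral.of_finite A R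
  haveI : FaithfulSMul A R := (faithfulSMul_iff_algebraMap_injective _ _).2 hginj
  let q0 := p.comap (algebraMap A R)
  have hfin : (q0.primesOver R).Finite := Algebra.QuasiFinite.finite_primesOver q0
  have hle : ∀ P ∈ q0.primesOver R, p ≤ P → P = p := fun P hP hpP => by
    by_contra hne
    obtain ⟨hPp, hPo⟩ := hP
    obtain ⟨_, z, hzP, hzp⟩ := SetLike.lt_iff_le_and_exists.1 (lt_of_le_of_ne hpP (Ne.symm hne))
    exact (Ideal.comap_lt_comap_of_integral_mem_sdiff (R := A) hpP ⟨hzP, hzp⟩
      (Algebra.IsIntegral.isIntegral z)).ne hPo.over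
  obtain ⟨y, hyp, hy⟩ : ∃ y ∈ p, ∀ P ∈ q0.primesOver R, P ≠ p → y ∉ P := by
    by_contra! hcon
    have hsub : (p : Set R) ⊆ ⋃ P ∈ ((hfin.toFinset.erase p : Finset (Ideal R)) : Set (Ideal R)), (P : Set R) := by
      intro y hy
      obtain ⟨P, hP, hne, hyP⟩ := hcon y hy
      exact Set.mem_biUnion (by simp [hne, hP]) hyP
    obtain ⟨P, hP, hpP⟩ := (Ideal.subset_union_prime p p fun P hP _ _ =>
      (hfin.mem_toFinset.1 (Finset.mem_of_mem_erase hP)).1).1 hsub
    exact Finset.ne_of_mem_erase hP (hle P (hfin.mem_toFinset.1 (Finset.mem_of_mem_erase hP)) hpP)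
  -- the intermediate ring
  haveI := RegLocal.ufd A
  haveI : IsIntegrallyClosed A := UniqueFactorizationMonoid.instIsIntegrallyClosed
  have hyi : IsIntegral A y := Algebra.IsIntegral.isIntegral y
  let B := Algebra.adjoin A ({y} : Set R)
  haveI : IsNoetherianRing B := isNoetherianRing_of_ringEquiv _ (minpoly.equivAdjoin hyi).toRingEquiv
  haveI : Module.Finite A B := Module.Finite.of_injective B.val.toLinearMap Subtype.val_injective
  haveI : Module.Finite B R := Module.Finite.of_restrictScalars_finite A B R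
  haveI : Algebra.IsIntegral B R := Algebra.IsIntegral.of_finite B R
  have hBinj : Function.Injective (algebraMap B R) := Subtype.val_injective
  haveI : FaithfulSMul B R := (faithfulSMul_iff_algebraMap_injective _ _).2 hBinj
  have hmB : ∀ M : Ideal B, M.IsMaximal → M = (maximalIdeal R).comap (algebraMap B R) := fun M hM => by
    obtain ⟨Q, hQ, hQM⟩ := Ideal.exists_ideal_over_maximal_of_isIntegral M
      (by rw [(RingHom.injective_iff_ker_eq_bot _).1 hBinj]; exact bot_le)
    rw [← hQM, IsLocalRing.eq_maximalIdeal hQ]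
  haveI : IsLocalRing B := IsLocalRing.of_unique_max_ideal
    ⟨_, Ideal.isMaximal_comap_of_isIntegral_of_isMaximal (maximalIdeal R), fun M hM => hmB M hM⟩
  haveI : IsAdicComplete (maximalIdeal B) B := FiniteCompleteLib.isAdicComplete_maximalIdeal A B
  have hBdim : ringKrullDim B = n := by
    rw [← hn]
    exact GrSegreLib.ringKrullDim_eq_of_integral_injective _ hBinj
      (algebraMap_isIntegral_iff.2 inferInstance)
  haveI hG : LocCoh.IsGorensteinLocalRing B := by
    haveI : IsRegularRing A := RegLocLib.isRegularRing_of_isRegularLocalRing A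
    haveI : LocCoh.IsGorensteinRing A := GorLib.gorensteinRing_of_regular A
    haveI : LocCoh.IsGorensteinRing A[X] := GorLib.gorensteinRing_polynomial A
    have h1 : LocCoh.IsGorensteinRing (AdjoinRoot (minpoly A y)) :=
      GorLib.gorensteinRing_quot A[X] (minpoly A y) (IsSMulRegular.of_ne_zero (minpoly.ne_zero hyi))
    have h2 : LocCoh.IsGorensteinRing B :=
      GorLib.gorensteinRing_of_ringEquiv (minpoly.equivAdjoin hyi).toRingEquiv h1
    let e : B ≃+* Localization.AtPrime (maximalIdeal B) := (IsLocalization.atUnits B (maximalIdeal B).primeCompl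
      (fun z hz => by
        have h : z ∉ maximalIdeal B := hz
        show IsUnit z
        simpa [mem_maximalIdeal] using h)).toRingEquiv
    exact GorLib.gorenstein_of_ringEquiv e.symm (h2.isGorensteinLocalRing_localization _)
  let q := p.comap (algebraMap B R)
  have hq : ringKrullDim (B ⧸ q) = 1 := by
    rw [← hp]
    exact GrSegreLib.ringKrullDim_eq_of_integral_injective (Ideal.quotientMap p (algebraMap B R) le_rfl)
      Ideal.quotientMap_injective
      (RingHom.IsIntegral.tower_top (Ideal.Quotient.mk q) _ (by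
        rw [Ideal.quotientMap_comp_mk]
        exact (algebraMap_isIntegral_iff.2 inferInstance).trans _ _ (RingHom.isIntegral_of_surjective _ Ideal.Quotient.mk_surjective)))
  haveI h0 := subsingleton_H_top_gorenstein B hBdim q hq
  have hn1 : 1 ≤ n := by
    have := ringKrullDim_quotient_le p
    rw [hp, hn] at this
    exact_mod_cast this
  have hcd : LocCoh.CdLE B q (n - 1) := by
    refine cdLE_of_ring q (n - 1) fun i hi => ?_
    by_cases hin : i = n
    · subst hin; exact h0
    · exact cdLE_of_ringKrullDim q n hBdim.le B i (by omega)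
  obtain ⟨φ, -⟩ := exists_indep (R := B) (R' := R) q R n
  haveI : Subsingleton ((localCohomology q n).obj (ModuleCat.of B R) : Type u) := hcd R n (by omega)
  haveI h1 : Subsingleton ((localCohomology (q.map (algebraMap B R)) n).obj (ModuleCat.of R R) : Type u) :=
    φ.injective.subsingleton
  have hrad : (q.map (algebraMap B R)).radical = p.radical := by
    rw [‹p.IsPrime›.radical]
    refine le_antisymm (‹p.IsPrime›.radical_le_iff.2 Ideal.map_comap_le) ?_
    rw [Ideal.radical_eq_sInf]
    refine le_sInf fun P hP => ?_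
    obtain ⟨hqP, hPp⟩ := hP
    have hqP' : q ≤ P.comap (algebraMap B R) := Ideal.map_le_iff_le_comap.1 hqP
    rcases eq_or_ne P p with rfl | hne
    · exact le_rfl
    rcases eq_or_lt_of_le hqP' with heq | hlt
    · refine absurd (hqP' (show (⟨y, Algebra.self_mem_adjoin_singleton A y⟩ : B) ∈ q from hyp)) ?_
      refine hy P ⟨hPp, ⟨?_⟩⟩ hne
      show q0 = P.comap (algebraMap A R)
      have hc := congrArg (Ideal.comap (algebraMap A B)) heq
      rw [Ideal.comap_comap, Ideal.comap_comap, ← IsScalarTower.algebraMap_eq] at hc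
      exact hc
    · have hmax : P.comap (algebraMap B R) = maximalIdeal B := by
        by_contra hne'
        haveI : (P.comap (algebraMap B R)).IsPrime := Ideal.IsPrime.comap _
        have hlt' := lt_of_le_of_ne (le_maximalIdeal (Ideal.IsPrime.ne_top inferInstance)) hne'
        rw [ringKrullDim_quotient] at hq
        let c0 : PrimeSpectrum.zeroLocus (q : Set B) := ⟨⟨q, Ideal.IsPrime.comap _⟩, fun _ h => h⟩
        let c1 : PrimeSpectrum.zeroLocus (q : Set B) := ⟨⟨_, ‹_›⟩, hqP'⟩
        let c2 : PrimeSpectrum.zeroLocus (q : Set B) := ⟨closedPoint B, le_maximalIdeal Ideal.IsPrime.ne_top'⟩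
        have h01 : c0 < c1 := hlt
        have h12 : c1 < c2 := hlt'
        have h1 := Order.LTSeries.length_le_krullDim
          (((RelSeries.singleton _ c0).snoc c1 h01).snoc c2 (by rw [RelSeries.last_snoc]; exact h12))
        rw [hq] at h1
        have : (2 : ℕ) ≤ 1 := by exact_mod_cast h1
        omega
      have hmaxP : P.IsMaximal :=
        Ideal.isMaximal_of_isIntegral_of_isMaximal_comap P (by rw [hmax]; infer_instance)
      rw [IsLocalRing.eq_maximalIdeal hmaxP]
      exact le_maximalIdeal ‹p.IsPrime›.ne_top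
  exact (radicalEquiv hrad n (ModuleCat.of R R)).symm.injective.subsingleton

/-- Hartshorne–Lichtenbaum vanishing for a complete local domain. -/
theorem subsingleton_H_of_domain (R : Type u) [CommRing R] [IsDomain R] [IsLocalRing R] [IsNoetherianRing R]
    [IsAdicComplete (maximalIdeal R) R] {n : ℕ} (hn : ringKrullDim R = n) (I : Ideal R)
    (hI : 1 ≤ ringKrullDim (R ⧸ I)) (M : Type u) [AddCommGroup M] [Module R M] (i : ℕ) (hi : n ≤ i) :
    Subsingleton (LocCoh.H I i M) := by
  have hI0 : 0 < ringKrullDim (R ⧸ I) := lt_of_lt_of_le zero_lt_one hI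
  obtain ⟨p, hp, hIp, hdim⟩ := exists_prime_quotient_dim_one I hI0
  have hn1 : 1 ≤ n := by
    have := ringKrullDim_quotient_le p
    rw [hdim, hn] at this
    exact_mod_cast this
  have hcd : LocCoh.CdLE R I (n - 1) := by
    refine cdLE_of_ring I (n - 1) fun j hj => ?_
    by_cases hjn : j = n
    · subst hjn
      exact subsingleton_H_top_of_le R j ((Module.supportDim_self_eq_ringKrullDim (R := R)).trans hn) hIp hp.ne_top
        (subsingleton_H_top_prime R hn p hdim)
    · exact cdLE_of_ringKrullDim I n hn.le R j (by omega)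
  exact hcd M i (by omega)

end Groth.Agent.HLVTLib
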