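import Groth.Agent.HLVTLib.Core
import Groth.Agent.RegLocal.Completion

/-!
Reduction of top vanishing to the quotients by primes of top dimension; completion.
-/

set_option autoImplicit false
universe u

open CategoryTheory IsLocalRing TensorProduct

noncomputable section

namespace Groth.Agent.HLVTLib

open LocCohLib

variable {R : Type u} [CommRing R] [IsNoetherianRing R]

omit [IsNoetherianRing R] in
lemma ses {N₁ N₂ N₃ : Type u} [AddCommGroup N₁] [Module R N₁] [AddCommGroup N₂] [Module R N₂] [AddCommGroup N₃]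
    [Module R N₃] (f : N₁ →ₗ[R] N₂) (g : N₂ →ₗ[R] N₃) (hf : Function.Injective f) (hg : Function.Surjective g)
    (h : Function.Exact f g) :
    ∃ S : ShortComplex (ModuleCat.{u} R), S.ShortExact ∧ S.X₁ = ModuleCat.of R N₁ ∧ S.X₂ = ModuleCat.of R N₂ ∧
      S.X₃ = ModuleCat.of R N₃ := by
  refine ⟨ShortComplex.mk (ModuleCat.ofHom f) (ModuleCat.ofHom g)
    (ModuleCat.hom_ext (LinearMap.ext fun x => h.apply_apply_eq_zero x)), ?_, rfl, rfl, rfl⟩
  exact
    { exact := (ShortComplex.moduleCat_exact_iff _).mpr fun x hx => (h x).1 hx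
      mono_f := (ModuleCat.mono_iff_injective _).mpr hf
      epi_g := (ModuleCat.epi_iff_surjective _).mpr hg }

/-- Right exactness of the top local cohomology. -/
theorem subsingleton_H_of_surjective (I : Ideal R) {d : ℕ} (hd : ringKrullDim R ≤ d) {N N' : Type u}
    [AddCommGroup N] [Module R N] [AddCommGroup N'] [Module R N'] (f : N →ₗ[R] N') (hf : Function.Surjective f)
    (h : Subsingleton (LocCoh.H I d N)) : Subsingleton (LocCoh.H I d N') := by
  obtain ⟨S, hS, h1, h2, h3⟩ := ses (LinearMap.ker f).subtype f Subtype.val_injective hf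
    (LinearMap.exact_subtype_ker_map f)
  have key := subsingleton_right I hS d (by rw [h2]; exact h)
    (by rw [h1]; exact cdLE_of_ringKrullDim I d hd _ (d + 1) (Nat.lt_succ_self d))
  rw [h3] at key
  exact key

theorem subsingleton_H_mid (I : Ideal R) (i : ℕ) {N₁ N₂ N₃ : Type u} [AddCommGroup N₁] [Module R N₁] [AddCommGroup N₂]
    [Module R N₂] [AddCommGroup N₃] [Module R N₃] (f : N₁ →ₗ[R] N₂) (g : N₂ →ₗ[R] N₃) (hf : Function.Injective f)
    (hg : Function.Surjective g) (h : Function.Exact f g)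
    (H1 : Subsingleton (LocCoh.H I i N₁)) (H3 : Subsingleton (LocCoh.H I i N₃)) :
    Subsingleton (LocCoh.H I i N₂) := by
  obtain ⟨S, hS, h1, h2, h3⟩ := ses f g hf hg h
  have key := subsingleton_mid I hS i (by rw [h1]; exact H1) (by rw [h3]; exact H3)
  rw [h2] at key
  exact key

omit [IsNoetherianRing R] in
lemma subsingleton_H_of_subsingleton (I : Ideal R) (i : ℕ) (N : Type u) [AddCommGroup N] [Module R N] [Subsingleton N] :
    Subsingleton (LocCoh.H I i N) :=
  ModuleCat.subsingleton_of_isZero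
    ((localCohomology I i).map_isZero (ModuleCat.isZero_of_subsingleton (ModuleCat.of R N)))

omit [IsNoetherianRing R] in
lemma subsingleton_H_congr (I : Ideal R) (i : ℕ) {N N' : Type u} [AddCommGroup N] [Module R N] [AddCommGroup N']
    [Module R N'] (e : N ≃ₗ[R] N') (h : Subsingleton (LocCoh.H I i N)) : Subsingleton (LocCoh.H I i N') :=
  haveI := h
  (((localCohomology I i).mapIso e.toModuleIso).toLinearEquiv).symm.injective.subsingleton

lemma ringKrullDim_quotient_eq_of_le {d : ℕ} (hd : ringKrullDim R ≤ d) {P : Ideal R} (hP : ringKrullDim (R ⧸ P) = d) :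
    ringKrullDim R = d :=
  le_antisymm hd (hP.ge.trans (ringKrullDim_quotient_le P))

lemma lt_of_le_of_ne_nat {d : ℕ} {x : WithBot ℕ∞} (h : x ≤ (d : ℕ)) (hne : x ≠ (d : ℕ)) : x < ((d : ℕ) : WithBot ℕ∞) :=
  lt_of_le_of_ne h hne

/-- It suffices to kill the quotients by primes of top dimension. -/
theorem subsingleton_H_of_primes (I : Ideal R) {d : ℕ} (hd : ringKrullDim R ≤ d)
    (h : ∀ P : Ideal R, P.IsPrime → ringKrullDim (R ⧸ P) = d → Subsingleton (LocCoh.H I d (R ⧸ P)))
    (M : Type u) [AddCommGroup M] [Module R M] (i : ℕ) (hi : d ≤ i) : Subsingleton (LocCoh.H I i M) := by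
  rcases lt_or_eq_of_le hi with hlt | rfl
  · exact cdLE_of_ringKrullDim I d hd M i hlt
  refine subsingleton_of_forall_fg I d (ModuleCat.of R M) fun M₀ hM₀ => ?_
  haveI : Module.Finite R M₀ := Module.Finite.of_fg hM₀
  show Subsingleton (LocCoh.H I d M₀)
  refine IsNoetherianRing.induction_on_isQuotientEquivQuotientPrime (A := R) (M := M₀) inferInstance
    (motive := fun N _ _ _ => Subsingleton (LocCoh.H I d N)) ?_ ?_ ?_
  · intro N _ _ _ _
    exact subsingleton_H_of_subsingleton I d N
  · intro N _ _ _ P e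
    refine subsingleton_H_congr I d e.symm ?_
    by_cases hP : ringKrullDim (R ⧸ P.1) = d
    · exact h P.1 P.2 hP
    · refine subsingleton_of_supportDim_lt I _ d ?_
      rw [Module.supportDim_quotient_eq_ringKrullDim]
      exact lt_of_le_of_ne_nat ((ringKrullDim_quotient_le P.1).trans hd) hP
  · intro N₁ _ _ _ N₂ _ _ _ N₃ _ _ _ f g hf hg hfg H1 H3
    exact subsingleton_H_mid I d f g hf hg hfg H1 H3

/-- Independence of the base for a quotient. -/
theorem subsingleton_H_quot_iff (I P : Ideal R) (i : ℕ) (N : Type u) [AddCommGroup N] [Module (R ⧸ P) N] [Module R N]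
    [IsScalarTower R (R ⧸ P) N] :
    Subsingleton (LocCoh.H I i N) ↔ Subsingleton (LocCoh.H (I.map (algebraMap R (R ⧸ P))) i N) := by
  obtain ⟨φ, -⟩ := exists_indep (R := R) (R' := R ⧸ P) I N i
  exact ⟨fun h => φ.injective.subsingleton, fun h => φ.symm.injective.subsingleton⟩

theorem ringKrullDim_quot_map (I P : Ideal R) :
    ringKrullDim ((R ⧸ P) ⧸ I.map (algebraMap R (R ⧸ P))) = ringKrullDim (R ⧸ (I ⊔ P)) := by
  refine ringKrullDim_eq_of_ringEquiv ?_
  exact (DoubleQuot.quotQuotEquivQuotSup P I).trans (Ideal.quotEquivOfEq (sup_comm P I))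

/-- Hartshorne–Lichtenbaum on a quotient of a complete local ring by a prime. -/
theorem subsingleton_H_quot_prime [IsLocalRing R] [IsAdicComplete (maximalIdeal R) R] (I P : Ideal R) [P.IsPrime]
    {d : ℕ} (hP : ringKrullDim (R ⧸ P) = d) (hI : 1 ≤ ringKrullDim (R ⧸ (I ⊔ P))) :
    Subsingleton (LocCoh.H I d (R ⧸ P)) := by
  haveI : Nontrivial (R ⧸ P) := Ideal.Quotient.nontrivial_iff.2 Ideal.IsPrime.ne_top'
  haveI : IsLocalRing (R ⧸ P) := IsLocalRing.of_surjective' _ Ideal.Quotient.mk_surjective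
  haveI : IsAdicComplete (maximalIdeal (R ⧸ P)) (R ⧸ P) := FiniteCompleteLib.isAdicComplete_maximalIdeal R (R ⧸ P)
  rw [subsingleton_H_quot_iff I P d (R ⧸ P)]
  exact subsingleton_H_of_domain (R ⧸ P) hP _ (by rwa [ringKrullDim_quot_map]) (R ⧸ P) d le_rfl

/-- The converse: top vanishing at a prime of top dimension forces positive dimension of the intersection. -/
theorem one_le_of_subsingleton_H_quot [IsLocalRing R] (I P : Ideal R) (hI : I ≠ ⊤) [P.IsPrime]
    {d : ℕ} (hP : ringKrullDim (R ⧸ P) = d) (h : Subsingleton (LocCoh.H I d (R ⧸ P))) :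
    1 ≤ ringKrullDim (R ⧸ (I ⊔ P)) := by
  haveI : Nontrivial (R ⧸ P) := Ideal.Quotient.nontrivial_iff.2 Ideal.IsPrime.ne_top'
  haveI : IsLocalRing (R ⧸ P) := IsLocalRing.of_surjective' _ Ideal.Quotient.mk_surjective
  rw [subsingleton_H_quot_iff I P d (R ⧸ P)] at h
  rw [← ringKrullDim_quot_map]
  set J := I.map (algebraMap R (R ⧸ P)) with hJ
  have hJm : J ≤ maximalIdeal (R ⧸ P) := by
    rw [hJ, ← IsLocalRing.map_maximalIdeal_of_surjective (algebraMap R (R ⧸ P)) Ideal.Quotient.mk_surjective]
    exact Ideal.map_mono (le_maximalIdeal hI)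
  by_contra hlt
  have hrad : J.radical = (maximalIdeal (R ⧸ P)).radical := by
    rw [(maximalIdeal.isMaximal _).isPrime.radical]
    refine le_antisymm ((maximalIdeal.isMaximal _).isPrime.radical_le_iff.2 hJm) ?_
    rw [Ideal.radical_eq_sInf]
    refine le_sInf fun q hq => ?_
    obtain ⟨hq, hqp⟩ := hq
    by_contra hqm
    refine hlt ?_
    rw [ringKrullDim_quotient]
    let c0 : PrimeSpectrum.zeroLocus (J : Set (R ⧸ P)) := ⟨⟨q, hqp⟩, hq⟩
    let c1 : PrimeSpectrum.zeroLocus (J : Set (R ⧸ P)) := ⟨closedPoint _, hJm⟩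
    have h01 : c0 < c1 := lt_of_le_of_ne (le_maximalIdeal hqp.ne_top) fun h => hqm (congrArg (fun z => z.1.asIdeal) h).ge
    exact_mod_cast Order.LTSeries.length_le_krullDim ((RelSeries.singleton _ c0).snoc c1 h01)
  haveI := h
  haveI hs : Subsingleton ((localCohomology (maximalIdeal (R ⧸ P)) d).obj (ModuleCat.of (R ⧸ P) (R ⧸ P)) : Type u) :=
    (radicalEquiv hrad d (ModuleCat.of (R ⧸ P) (R ⧸ P))).symm.injective.subsingleton
  haveI := Groth.Agent.LocCohLib.nontrivial_H (R := R ⧸ P) (R ⧸ P) d
    (by rw [Module.supportDim_self_eq_ringKrullDim]; exact hP)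
  exact false_of_nontrivial_of_subsingleton
    ((localCohomology (maximalIdeal (R ⧸ P)) d).obj (ModuleCat.of (R ⧸ P) (R ⧸ P)) : Type u)

section Completion

variable [IsLocalRing R]

/-- The completion. -/
abbrev Cpl (R : Type u) [CommRing R] [IsLocalRing R] := AdicCompletion (maximalIdeal R) R

instance isLocalRing_cpl : IsLocalRing (Cpl R) :=
  RegLocal.isLocalRing_completion R _ (maximalIdeal.isMaximal R).ne_top

instance isNoetherianRing_cpl : IsNoetherianRing (Cpl R) := RegLocal.isNoetherianRing_completion R _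

instance faithfullyFlat_cpl : Module.FaithfullyFlat R (Cpl R) :=
  RegLocal.faithfullyFlat_completion R _ (maximalIdeal.isMaximal R).ne_top

instance isAdicComplete_cpl : IsAdicComplete (maximalIdeal (Cpl R)) (Cpl R) := by
  rw [RegLocal.maximalIdeal_completion R _ (maximalIdeal.isMaximal R).ne_top]
  exact AdicCompletion.isAdicComplete_self _ (maximalIdeal R).fg_of_isNoetherianRing

theorem ringKrullDim_cpl : ringKrullDim (Cpl R) = ringKrullDim R :=
  RegLocal.ringKrullDim_completion R _ (maximalIdeal.isMaximal R).ne_top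

theorem subsingleton_H_of_cpl (I : Ideal R) (M : Type u) [AddCommGroup M] [Module R M] (i : ℕ)
    (h : Subsingleton (LocCoh.H (I.map (algebraMap R (Cpl R))) i (Cpl R ⊗[R] M))) :
    Subsingleton (LocCoh.H I i M) := by
  obtain ⟨e⟩ := exists_baseChange (Cpl R) I M i
  haveI := h
  haveI : Subsingleton (Cpl R ⊗[R] ((localCohomology I i).obj (ModuleCat.of R M) : Type u)) :=
    e.injective.subsingleton
  exact Module.FaithfullyFlat.lTensor_reflects_triviality R (Cpl R) _

theorem subsingleton_H_cpl_self (I : Ideal R) (i : ℕ) (h : Subsingleton (LocCoh.H I i R)) :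
    Subsingleton (LocCoh.H (I.map (algebraMap R (Cpl R))) i (Cpl R)) := by
  obtain ⟨e⟩ := exists_baseChange (Cpl R) I R i
  haveI := h
  haveI : Subsingleton (LocCoh.H (I.map (algebraMap R (Cpl R))) i (Cpl R ⊗[R] R)) :=
    e.symm.injective.subsingleton
  exact subsingleton_H_congr _ i (AlgebraTensorModule.rid R (Cpl R) (Cpl R)) inferInstance

end Completion

lemma mem_minimalPrimes_of_dim {d : ℕ} (hd : ringKrullDim R ≤ d) {P : Ideal R} [P.IsPrime]
    (hP : ringKrullDim (R ⧸ P) = d) : P ∈ minimalPrimes R := by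
  obtain ⟨q, hq, hqP⟩ := Ideal.exists_minimalPrimes_le (bot_le : (⊥ : Ideal R) ≤ P)
  rcases eq_or_ne q P with rfl | hne
  · exact hq
  haveI := hq.1.1
  obtain ⟨x, hxP, hxq⟩ := Set.not_subset.1 (fun h => hne (le_antisymm hqP h))
  have h1 := ringKrullDim_succ_le_of_surjective (Ideal.Quotient.factor hqP) (Ideal.Quotient.factor_surjective hqP)
    (r := Ideal.Quotient.mk q x)
    (mem_nonZeroDivisors_of_ne_zero fun h => hxq (Ideal.Quotient.eq_zero_iff_mem.1 h))
    (by rw [Ideal.Quotient.factor_mk]; exact Ideal.Quotient.eq_zero_iff_mem.2 hxP)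
  rw [hP] at h1
  have h2 : (((d + 1 : ℕ)) : WithBot ℕ∞) ≤ (d : ℕ) := by
    push_cast; exact h1.trans ((ringKrullDim_quotient_le q).trans hd)
  have : d + 1 ≤ d := by exact_mod_cast h2
  omega

/-- Top vanishing for one module whose support contains the prime. -/
theorem subsingleton_H_quot_of_module (I : Ideal R) {d : ℕ} (hd : ringKrullDim R ≤ d) (M : Type u) [AddCommGroup M]
    [Module R M] [Module.Finite R M] (P : Ideal R) [P.IsPrime] (hP : ringKrullDim (R ⧸ P) = d)
    (hmem : (⟨P, ‹_›⟩ : PrimeSpectrum R) ∈ Module.support R M) (hvan : Subsingleton (LocCoh.H I d M)) :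
    Subsingleton (LocCoh.H I d (R ⧸ P)) := by
  classical
  let N := M ⧸ (P • ⊤ : Submodule R M)
  haveI hN : Subsingleton (LocCoh.H I d N) :=
    subsingleton_H_of_surjective I hd (P • ⊤ : Submodule R M).mkQ (Submodule.mkQ_surjective _) hvan
  haveI : Module.Finite (R ⧸ P) N := Module.Finite.of_restrictScalars_finite R _ N
  haveI : Module.FinitePresentation (R ⧸ P) N := Module.finitePresentation_of_finite _ _
  -- a nonzero functional
  obtain ⟨h, hh⟩ : ∃ h : N →ₗ[R ⧸ P] R ⧸ P, h ≠ 0 := by
    let D := R ⧸ P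
    let K := FractionRing D
    let V := LocalizedModule (nonZeroDivisors D) N
    haveI : Nontrivial V := by
      by_contra hV
      rw [not_nontrivial_iff_subsingleton, LocalizedModule.subsingleton_iff] at hV
      have hsuppN : (⟨P, ‹_›⟩ : PrimeSpectrum R) ∈ Module.support R N := by
        rw [Module.support_quotient]
        exact ⟨hmem, fun z hz => hz⟩
      rw [Module.mem_support_iff] at hsuppN
      obtain ⟨x⟩ : Nonempty (LocalizedModule P.primeCompl N) := inferInstance
      have : Subsingleton (LocalizedModule P.primeCompl N) := by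
        rw [LocalizedModule.subsingleton_iff]
        intro m
        obtain ⟨r, hr, hrm⟩ := hV m
        obtain ⟨r, rfl⟩ := Ideal.Quotient.mk_surjective r
        refine ⟨r, fun hrP => nonZeroDivisors.ne_zero hr (Ideal.Quotient.eq_zero_iff_mem.2 hrP), ?_⟩
        rwa [← Ideal.Quotient.algebraMap_eq, algebraMap_smul] at hrm
      exact false_of_nontrivial_of_subsingleton (LocalizedModule P.primeCompl N)
    obtain ⟨v, hv⟩ := exists_ne (0 : V)
    obtain ⟨φ, hφ⟩ := Module.Projective.exists_dual_ne_zero K hv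
    obtain ⟨⟨m, s⟩, hms⟩ := IsLocalizedModule.surj (nonZeroDivisors D) (LocalizedModule.mkLinearMap (nonZeroDivisors D) N) v
    let gN : N →ₗ[D] K := (φ.restrictScalars D).comp (LocalizedModule.mkLinearMap (nonZeroDivisors D) N)
    obtain ⟨h, t, ht⟩ := Module.FinitePresentation.exists_lift_of_isLocalizedModule (nonZeroDivisors D)
      (Algebra.linearMap D K) gN
    refine ⟨h, fun h0 => ?_⟩
    have h1 := LinearMap.congr_fun ht m
    rw [h0, LinearMap.comp_zero, LinearMap.zero_apply, LinearMap.smul_apply] at h1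
    simp only [gN, LinearMap.comp_apply, LinearMap.restrictScalars_apply, ← hms] at h1
    rw [Submonoid.smul_def, Submonoid.smul_def, LinearMap.map_smul_of_tower, ← mul_smul, Algebra.smul_def] at h1
    rcases mul_eq_zero.1 h1.symm with h2 | h2
    · rw [IsFractionRing.to_map_eq_zero_iff] at h2
      exact nonZeroDivisors.ne_zero (mul_mem t.2 s.2) h2
    · exact hφ h2
  let hR : N →ₗ[R] R ⧸ P := h.restrictScalars R
  let L := LinearMap.range hR
  have hL : Subsingleton (LocCoh.H I d L) := subsingleton_H_of_surjective I hd hR.rangeRestrict hR.surjective_rangeRestrict hN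
  refine subsingleton_H_mid I d L.subtype L.mkQ Subtype.val_injective (Submodule.mkQ_surjective _)
    (LinearMap.exact_subtype_mkQ L) hL (subsingleton_of_supportDim_lt I _ d ?_)
  obtain ⟨m, hm⟩ := not_forall.1 (fun hall => hh (LinearMap.ext hall))
  obtain ⟨a, ha⟩ := Ideal.Quotient.mk_surjective (h m)
  rw [Module.supportDim_eq_ringKrullDim_quotient_annihilator]
  have hPann : P ≤ Module.annihilator R ((R ⧸ P) ⧸ L) := fun x hx => Module.mem_annihilator.2 fun z => by
    obtain ⟨z, rfl⟩ := Submodule.mkQ_surjective L z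
    rw [← map_smul, Algebra.smul_def, Ideal.Quotient.algebraMap_eq, Ideal.Quotient.eq_zero_iff_mem.2 hx, zero_mul, map_zero]
  have haann : a ∈ Module.annihilator R ((R ⧸ P) ⧸ L) := Module.mem_annihilator.2 fun z => by
    obtain ⟨z, rfl⟩ := Submodule.mkQ_surjective L z
    obtain ⟨z, rfl⟩ := Ideal.Quotient.mk_surjective z
    rw [← map_smul]
    refine (Submodule.Quotient.mk_eq_zero L).2 ⟨z • m, ?_⟩
    rw [map_smul]
    show z • h m = _
    rw [← ha, Algebra.smul_def, Algebra.smul_def, Ideal.Quotient.algebraMap_eq, mul_comm]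
  have h1 := ringKrullDim_succ_le_of_surjective (Ideal.Quotient.factor hPann) (Ideal.Quotient.factor_surjective hPann)
    (r := Ideal.Quotient.mk P a)
    (mem_nonZeroDivisors_of_ne_zero fun h0 => hm (by rw [← ha, h0, LinearMap.zero_apply]))
    (by rw [Ideal.Quotient.factor_mk]; exact Ideal.Quotient.eq_zero_iff_mem.2 haann)
  rw [hP] at h1
  by_contra hlt
  rw [not_lt] at hlt
  have h2 : (((d + 1 : ℕ)) : WithBot ℕ∞) ≤ (d : ℕ) := by
    push_cast; exact (add_le_add_left hlt 1).trans h1
  have : d + 1 ≤ d := by exact_mod_cast h2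
  omega

end Groth.Agent.HLVTLib
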